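import Cfsg.Agent.Lib.OddOrder.Types.Tame
import Cfsg.Agent.Lib.OddOrder.Interface.PF8

/-!
# BG 16 from the rows of BG 14 and 15
-/

set_option autoImplicit false

namespace Cfsg.Agent.Lib.OddOrder.Types

universe u

/-- BG 16, Theorems I and II, given the rows of BG 14 and 15. -/
theorem bg16 {G : Type u} [Group G] [Finite G] (hG : Cfsg.IsMinSimpleOddOrder G) (R : Rows G) :
    Interface.PF8.BG16 G where
  types _ hM := Structure.types hG R hM
  core_eq _ hM := Classify.typeCore_eq hG R hM
  structureThm := Structure.structureThm hG R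
  hall _ hM := Classify.normalizer_and_hall hG R hM
  cent _ hM _ hU := Tame.centralizers hG R hM hU
  embed _ hM X hX := Tame.embed hG R hM X hX

end Cfsg.Agent.Lib.OddOrder.Types
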