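import Cfsg.Agent.Lib.OddOrder.TypeOne
import Cfsg.Agent.Lib.OddOrder.TypeP
import Cfsg.Agent.Lib.Hall.Coprime
import Cfsg.Agent.Lib.Frobenius.Basic
import Cfsg.Agent.Lib.OddOrder.Cyclic

/-!
# The types of maximal subgroups: facts valid in every finite group

`M_F` of a normal Hall subgroup over it, conjugacy of the complements in the type `P` data, and the
mutual exclusion of the types.
-/

set_option autoImplicit false
set_option linter.style.haveILetI false

open scoped Pointwise commutatorElement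

namespace Cfsg.Agent.Lib.OddOrder.Types.General

open Cfsg.Agent.Lib.OddOrder.Basic

universe u

variable {G : Type u} [Group G]

theorem map_conj (H : Subgroup G) (g : G) :
    H.map (MulAut.conj g).toMonoidHom = MulAut.conj g • H := rfl

theorem mem_map_conj {H : Subgroup G} {g x : G} :
    x ∈ H.map (MulAut.conj g).toMonoidHom ↔ g⁻¹ * x * g ∈ H := by
  constructor
  · rintro ⟨y, hy, rfl⟩
    simpa [mul_assoc] using hy
  · intro h
    exact ⟨_, h, by simp [mul_assoc]⟩

theorem conj_mem_map_conj {H : Subgroup G} {g x : G} (h : x ∈ H) :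
    g * x * g⁻¹ ∈ H.map (MulAut.conj g).toMonoidHom := ⟨x, h, by simp⟩

theorem map_conj_eq_of_mem_normalizer {H : Subgroup G} {g : G}
    (hg : g ∈ Subgroup.normalizer (H : Set G)) : H.map (MulAut.conj g).toMonoidHom = H := by
  ext x
  rw [mem_map_conj]
  exact ((Subgroup.mem_normalizer_iff'' ).1 hg x).symm

theorem mem_normalizer_of_map_conj_eq {H : Subgroup G} {g : G}
    (h : H.map (MulAut.conj g).toMonoidHom = H) : g ∈ Subgroup.normalizer (H : Set G) := by
  rw [Subgroup.mem_normalizer_iff'']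
  intro x
  nth_rw 1 [← h]
  exact mem_map_conj

theorem normalizer_map_conj_le {U M : Subgroup G} {g : G} (hg : g ∈ M)
    (h : Subgroup.normalizer (U : Set G) ≤ M) :
    Subgroup.normalizer ((U.map (MulAut.conj g).toMonoidHom : Subgroup G) : Set G) ≤ M := by
  intro n hn
  have h1 : g⁻¹ * n * g ∈ Subgroup.normalizer (U : Set G) := by
    rw [Subgroup.mem_normalizer_iff]
    intro x
    have h2 := (Subgroup.mem_normalizer_iff.1 hn) (g * x * g⁻¹)
    simp only [mem_map_conj] at h2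
    constructor
    · intro hx
      have h3 := h2.1 (by rwa [show g⁻¹ * (g * x * g⁻¹) * g = x by group])
      rwa [show g⁻¹ * n * g * x * (g⁻¹ * n * g)⁻¹ = g⁻¹ * (n * (g * x * g⁻¹) * n⁻¹) * g by group]
    · intro hx
      have h3 := h2.2 (by
        rwa [show g⁻¹ * (n * (g * x * g⁻¹) * n⁻¹) * g = g⁻¹ * n * g * x * (g⁻¹ * n * g)⁻¹ by group])
      rwa [show g⁻¹ * (g * x * g⁻¹) * g = x by group] at h3
  have h4 := mul_mem (mul_mem hg (h h1)) (inv_mem hg)
  rwa [show g * (g⁻¹ * n * g) * g⁻¹ = n by group] at h4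

theorem isComplIn_map_conj {A B M : Subgroup G} (h : Cfsg.IsComplIn A B M) (g : G) :
    Cfsg.IsComplIn (A.map (MulAut.conj g).toMonoidHom) (B.map (MulAut.conj g).toMonoidHom)
      (M.map (MulAut.conj g).toMonoidHom) := by
  refine ⟨Subgroup.map_mono h.1, Subgroup.map_mono h.2.1, ?_, ?_⟩
  · rw [← Subgroup.map_inf _ _ _ (MulAut.conj g).injective, h.2.2.1, Subgroup.map_bot]
  · rintro _ ⟨m, hm, rfl⟩
    obtain ⟨a, ha, b, hb, rfl⟩ := h.2.2.2 m hm
    exact ⟨_, ⟨a, ha, rfl⟩, _, ⟨b, hb, rfl⟩, map_mul _ _ _⟩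

variable [Finite G]

/-- `M_F` is also `D_F` for a normal Hall subgroup `D` of `M` over `M_F`. -/
theorem fittingHallOf_eq_of_normalHall {M D : Subgroup G} (hDM : D ≤ M)
    (hn : M ≤ Subgroup.normalizer (D : Set G))
    (hcop : (Nat.card D).Coprime (D.relIndex M)) (hH : Cfsg.fittingHallOf M ≤ D) :
    Cfsg.fittingHallOf D = Cfsg.fittingHallOf M := by
  set X := Cfsg.fittingHallOf D with hX
  have hXD : X ≤ D := fittingHallOf_le D
  refine le_antisymm (le_fittingHallOf (hXD.trans hDM) ?_ (fittingHallOf_isNilpotent D) ?_)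
    (le_fittingHallOf hH (hDM.trans (fittingHallOf_normal M)) (fittingHallOf_isNilpotent M) ?_)
  · intro m hm
    have key : ∀ m ∈ M, X.map (MulAut.conj m).toMonoidHom ≤ X := by
      intro m hm
      have hDm := map_conj_eq_of_mem_normalizer (hn hm)
      refine le_fittingHallOf ((Subgroup.map_mono hXD).trans hDm.le) ?_
        (Cfsg.Agent.Lib.Cores.isNilpotent_map _ (fittingHallOf_isNilpotent D)) ?_
      · calc D = D.map (MulAut.conj m).toMonoidHom := hDm.symm
          _ ≤ (Subgroup.normalizer (X : Set G)).map (MulAut.conj m).toMonoidHom :=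
              Subgroup.map_mono (fittingHallOf_normal D)
          _ ≤ _ := Subgroup.le_normalizer_map _
      · nth_rw 1 [← hDm]
        rw [Subgroup.relIndex_map_map_of_injective _ _ (MulAut.conj m).injective,
          Subgroup.card_map_of_injective (MulAut.conj m).injective]
        exact fittingHallOf_coprime D
    exact mem_normalizer_of_map_conj_eq (le_antisymm (key m hm)
      (fun x hx => mem_map_conj.2 (by
        simpa [mem_map_conj] using key m⁻¹ (inv_mem hm) (conj_mem_map_conj (g := m⁻¹) hx))))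
  · rw [← Subgroup.relIndex_mul_relIndex X D M hXD hDM]
    exact (fittingHallOf_coprime D).mul_right
      (hcop.coprime_dvd_left (Subgroup.card_dvd_of_le hXD))
  · refine (fittingHallOf_coprime M).coprime_dvd_right ?_
    rw [← Subgroup.relIndex_mul_relIndex _ D M hH hDM]
    exact dvd_mul_right _ _

theorem compl_isPiHallOf {H U D : Subgroup G} (h : Cfsg.IsComplIn H U D)
    (hcop : (Nat.card H).Coprime (Nat.card U)) :
    Cfsg.IsPiHallOf (Cfsg.primesNotDvd (Nat.card H)) U D := by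
  refine ⟨h.2.1, fun p hp hd => ⟨hp, fun hd' => hp.ne_one (Nat.eq_one_of_dvd_coprimes hcop hd' hd)⟩,
    fun p hp hmem hd => ?_⟩
  rw [isComplIn_relIndex (isComplIn_symm h)] at hd
  exact hmem.2 hd

/-- Complements of a Hall subgroup of a solvable subgroup are conjugate in it. -/
theorem exists_conj_compl {H U U' D : Subgroup G} (hs : Group.IsSolvable D)
    (h : Cfsg.IsComplIn H U D) (h' : Cfsg.IsComplIn H U' D)
    (hcop : (Nat.card H).Coprime (Nat.card U)) :
    ∃ d ∈ D, U.map (MulAut.conj d).toMonoidHom = U' := by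
  have hc : Nat.card U' = Nat.card U := by
    have h1 := isComplIn_card h
    rw [← isComplIn_card h'] at h1
    exact (Nat.eq_of_mul_eq_mul_left Nat.card_pos h1).symm
  exact Hall.Coprime.exists_conj_of_isPiHallOf hs (compl_isPiHallOf h hcop)
    (compl_isPiHallOf h' (hc.symm ▸ hcop))

theorem exists_conj_typeP_U {M W U V W' U' V' : Subgroup G} (hs : Group.IsSolvable ↥⁅M, M⁆)
    (h : Cfsg.IsTypePWith M W U V) (h' : Cfsg.IsTypePWith M W' U' V') :
    ∃ d ∈ ⁅M, M⁆, U.map (MulAut.conj d).toMonoidHom = U' :=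
  exists_conj_compl hs h.U_compl h'.U_compl (TypeP.coprime_H_U h)

/-- A subgroup of type `P` is not of type I. -/
theorem not_typeI_of_typeP {M : Subgroup G} (hI : Cfsg.Agent.Lib.OddOrder.TypeOne.IsTypeI M) (hP : Cfsg.IsOfTypeP M) :
    False := by
  obtain ⟨hs, -, -, -, U, -, hU, -, U₀, hU₀U, hexp, hfpf⟩ := hI.1
  obtain ⟨W₁, V, W₂, hP⟩ := hP
  haveI := hs
  have hW : W₁ ≤ M := hP.W₁_compl.2.1
  obtain ⟨p, hp, hpW⟩ := Nat.exists_prime_and_dvd (mt Subgroup.card_eq_one.1 hP.W₁_ne)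
  haveI := Fact.mk hp
  obtain ⟨a, ha⟩ := exists_prime_orderOf_dvd_card' (G := W₁) p hpW
  have ha1 : (a : G) ≠ 1 := fun e => hp.ne_one (by rw [← ha, ← Subgroup.orderOf_coe, e, orderOf_one])
  obtain ⟨w, hw, hw1⟩ := W₂.bot_or_exists_ne_one.resolve_left hP.selfNormalizing.2.1
  have hwH : w ∈ Cfsg.fittingHallOf M := (hP.W₂_le hw).1
  have haw : (a : G) * w = w * (a : G) := hP.selfNormalizing.2.2.2.1 a a.2 w hw
  -- `p` is prime to `|M_F|`, hence divides the exponent of `U`
  have hpH : ¬ p ∣ Nat.card (Cfsg.fittingHallOf M) := by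
    intro hd
    have h1 := hP.W₁_hall
    rw [isComplIn_relIndex (isComplIn_symm hP.W₁_compl)] at h1
    exact hp.ne_one (Nat.eq_one_of_dvd_coprimes h1 hpW
      (hd.trans (Subgroup.card_dvd_of_le hP.U_compl.1)))
  have hpU : p ∣ Nat.card U := by
    have h1 : p ∣ Nat.card M := hpW.trans (Subgroup.card_dvd_of_le hW)
    rw [← hU.card_mul_card] at h1
    exact (hp.dvd_mul.1 h1).resolve_left (fun h2 => hpH (by
      rwa [Cfsg.fittingHallOf, Subgroup.card_map_of_injective M.subtype_injective]))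
  have hpe : p ∣ Monoid.exponent U₀ := by
    rw [hexp]
    obtain ⟨b, hb⟩ := exists_prime_orderOf_dvd_card' (G := U) p hpU
    exact hb ▸ Monoid.order_dvd_exponent b
  obtain ⟨u, hu⟩ := exists_prime_orderOf_dvd_card' (G := U₀) p
    (hpe.trans Group.exponent_dvd_nat_card)
  have hu' : orderOf (u : M) = p := by rw [Subgroup.orderOf_coe, hu]
  -- a conjugate of `⟨u⟩` lies in `W₁`
  have hhall : Cfsg.IsPiHall {q | q ∣ Nat.card W₁} (W₁.subgroupOf M) := by
    refine ⟨fun q hq hd => ?_, fun q hq hmem hd => hq.ne_one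
      (Nat.eq_one_of_dvd_coprimes hP.W₁_hall hmem hd)⟩
    show q ∣ Nat.card W₁
    rwa [Nat.card_congr (Subgroup.subgroupOfEquivOfLe hW).toEquiv] at hd
  obtain ⟨m₀, hm⟩ := Hall.exists_conj_le hhall (K := Subgroup.zpowers (u : M)) (fun q hq hd => by
    rw [Nat.card_zpowers, hu'] at hd
    rw [(Nat.prime_dvd_prime_iff_eq hq hp).1 hd]
    exact hpW)
  set m : M := m₀⁻¹ with hmdef
  set u' : G := ((m * (u : M) * m⁻¹ : M) : G) with hu'def
  have huW : u' ∈ W₁ := by
    have h1 := hm (Subgroup.mem_zpowers (u : M))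
    rw [← map_conj, mem_map_conj, Subgroup.mem_subgroupOf] at h1
    rw [hu'def, hmdef, inv_inv]
    exact h1
  -- in the cyclic group `W₁` the subgroup of order `p` is unique
  have heq : Subgroup.zpowers u' = Subgroup.zpowers (a : G) := by
    haveI := hP.W₁_cyclic
    refine Cyclic.eq_of_card_eq_of_isCyclic (W := W₁) (Subgroup.zpowers_le.2 huW)
      (Subgroup.zpowers_le.2 a.2) ?_
    rw [Nat.card_zpowers, Nat.card_zpowers, Subgroup.orderOf_coe a, ha, hu'def,
      Subgroup.orderOf_coe (m * (u : M) * m⁻¹)]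
    have h1 := (MulAut.conj m).orderOf_eq (u : M)
    rw [MulAut.conj_apply] at h1
    exact h1.trans hu'
  obtain ⟨k, hk⟩ := Subgroup.mem_zpowers_iff.1 (heq ▸ Subgroup.mem_zpowers u')
  have hcomm : Commute u' w := hk ▸ (Commute.zpow_left haw k)
  obtain ⟨w', hw', rfl⟩ := hwH
  have hz : (u : M) * (m⁻¹ * w' * m) = (m⁻¹ * w' * m) * (u : M) := by
    have h1 : (m * (u : M) * m⁻¹) * w' = w' * (m * (u : M) * m⁻¹) := Subtype.ext hcomm.eq
    calc (u : M) * (m⁻¹ * w' * m) = m⁻¹ * ((m * (u : M) * m⁻¹) * w') * m := by group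
      _ = m⁻¹ * (w' * (m * (u : M) * m⁻¹)) * m := by rw [h1]
      _ = (m⁻¹ * w' * m) * (u : M) := by group
  have h2 := hfpf u u.2 (fun e => hp.ne_one (by rw [← hu', e, orderOf_one])) _
    ((Cfsg.fittingHall_normal M).conj_mem' w' hw' m) hz
  refine hw1 ?_
  have h3 : w' = 1 := by
    have h4 := congrArg (fun z => m * z * m⁻¹) h2
    simpa [mul_assoc] using h4
  rw [h3]
  rfl

omit [Finite G] in
theorem typeII_typeP {M : Subgroup G} (h : Cfsg.IsOfTypeII M) : Cfsg.IsOfTypeP M := by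
  obtain ⟨W, U, V, h, -⟩ := h; exact ⟨W, U, V, h⟩

omit [Finite G] in
theorem typeIII_typeP {M : Subgroup G} (h : Cfsg.IsOfTypeIII M) : Cfsg.IsOfTypeP M := by
  obtain ⟨W, U, V, h, -⟩ := h; exact ⟨W, U, V, h⟩

omit [Finite G] in
theorem typeIV_typeP {M : Subgroup G} (h : Cfsg.IsOfTypeIV M) : Cfsg.IsOfTypeP M := by
  obtain ⟨W, U, V, h, -⟩ := h; exact ⟨W, U, V, h⟩

omit [Finite G] in
theorem typeV_typeP {M : Subgroup G} (h : Cfsg.IsOfTypeV M) : Cfsg.IsOfTypeP M := by
  obtain ⟨W, U, V, h, -⟩ := h; exact ⟨W, U, V, h⟩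

theorem not_typeII_and_III_IV {M : Subgroup G} (hs : Group.IsSolvable ↥⁅M, M⁆)
    (h : Cfsg.IsOfTypeII M) (h' : Cfsg.IsOfTypeIII M ∨ Cfsg.IsOfTypeIV M) : False := by
  obtain ⟨W, U, V, hP, -, -, -, -, hN, -⟩ := h
  have key : ∀ {W' U' V' : Subgroup G}, Cfsg.IsTypePWith M W' U' V' →
      ¬ Subgroup.normalizer (U' : Set G) ≤ M := by
    intro W' U' V' hP' hN'
    obtain ⟨d, hd, hdU⟩ := exists_conj_typeP_U hs hP' hP
    exact hN (hdU ▸ normalizer_map_conj_le (TypeP.derived_le M hd) hN')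
  rcases h' with h' | h'
  · obtain ⟨W', U', V', hP', -, -, -, -, hN'⟩ := h'
    exact key hP' hN'
  · obtain ⟨W', U', V', hP', -, -, -, -, hN'⟩ := h'
    exact key hP' hN'

theorem not_typeV_and_other {M : Subgroup G} (hs : Group.IsSolvable ↥⁅M, M⁆)
    (h : Cfsg.IsOfTypeV M)
    (h' : Cfsg.IsOfTypeII M ∨ Cfsg.IsOfTypeIII M ∨ Cfsg.IsOfTypeIV M) : False := by
  obtain ⟨W, U, V, hP, hU, -⟩ := h
  have key : ∀ {W' U' V' : Subgroup G}, Cfsg.IsTypePWith M W' U' V' → U' = ⊥ := by
    intro W' U' V' hP'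
    obtain ⟨d, -, hdU⟩ := exists_conj_typeP_U hs hP hP'
    rw [← hdU, hU, Subgroup.map_bot]
  rcases h' with ⟨W', U', V', hP', hne, -⟩ | ⟨W', U', V', hP', hne, -⟩ | ⟨W', U', V', hP', hne, -⟩
  all_goals exact hne (key hP')

end Cfsg.Agent.Lib.OddOrder.Types.General
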