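import Cfsg.Agent.Lib.OddOrder.Types.Rows
import Cfsg.Agent.Lib.OddOrder.Types.General
import Cfsg.Agent.Lib.OddOrder.SigmaSubgroup

/-!
# The factorisation `M = K U M_σ`: orders, derived subgroup, conjugation

Consequences of `IsSigmaDecomposition` and of the rows of BG 14, 15.
-/

set_option autoImplicit false
set_option linter.style.haveILetI false
set_option linter.unusedSectionVars false

open scoped Pointwise commutatorElement

namespace Cfsg.Agent.Lib.OddOrder.Types.Decomp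

open Cfsg.Agent.Lib.OddOrder.MinSimple Cfsg.Agent.Lib.OddOrder.Basic

universe u

variable {G : Type u} [Group G] [Finite G] {M K U : Subgroup G}

theorem sigmaCore_le (M : Subgroup G) : Cfsg.sigmaCore M ≤ M := Subgroup.map_subtype_le _

theorem sigmaCore_normal (M : Subgroup G) :
    M ≤ Subgroup.normalizer (Cfsg.sigmaCore M : Set G) := le_normalizer_map_subtype M _

theorem mem_sigma_of_dvd {p : ℕ} (hp : p.Prime) (h : p ∣ Nat.card (Cfsg.sigmaCore M)) :
    p ∈ Cfsg.sigma M :=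
  Cores.piCore_isPiGroup _ p hp (h.trans (Subgroup.card_map_dvd _ _))

theorem sigmaCore_ne_bot (R : Rows G) (hM : IsCoatom M) : Cfsg.sigmaCore M ≠ ⊥ := fun e =>
  (R.r1355 M hM).1 (le_bot_iff.1 (e ▸ (R.r1355 M hM).2.1))

theorem coprime_K_sigma (h : Cfsg.IsSigmaDecomposition M K U) :
    (Nat.card K).Coprime (Nat.card (Cfsg.sigmaCore M)) :=
  Nat.coprime_of_dvd fun p hp h1 h2 => (h.hall.2.1 p hp h1).2.2.1 (mem_sigma_of_dvd hp h2)

theorem card_sup (h : Cfsg.IsSigmaDecomposition M K U) :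
    Nat.card ↥(K ⊔ Cfsg.sigmaCore M) = Nat.card K * Nat.card (Cfsg.sigmaCore M) :=
  Coprime.card_sup_of_disjoint (h.hall.1.trans (sigmaCore_normal M))
    (disjoint_iff.2 (inf_eq_bot_of_coprime (coprime_K_sigma h)))

theorem card_eq (h : Cfsg.IsSigmaDecomposition M K U) :
    Nat.card M = Nat.card U * (Nat.card K * Nat.card (Cfsg.sigmaCore M)) := by
  rw [← isComplIn_card h.compl, card_sup h]

theorem relIndex_K (h : Cfsg.IsSigmaDecomposition M K U) :
    K.relIndex M = Nat.card U * Nat.card (Cfsg.sigmaCore M) := by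
  have h1 := Subgroup.relIndex_mul_relIndex (⊥ : Subgroup G) K M bot_le h.hall.1
  rw [Subgroup.relIndex_bot_left, Subgroup.relIndex_bot_left, card_eq h] at h1
  refine Nat.eq_of_mul_eq_mul_left (Nat.card_pos (α := K)) (h1.trans ?_)
  ring

theorem relIndex_sigma (h : Cfsg.IsSigmaDecomposition M K U) :
    (Cfsg.sigmaCore M).relIndex M = Nat.card U * Nat.card K := by
  have h1 := Subgroup.relIndex_mul_relIndex (⊥ : Subgroup G) _ M bot_le (sigmaCore_le M)
  rw [Subgroup.relIndex_bot_left, Subgroup.relIndex_bot_left, card_eq h] at h1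
  refine Nat.eq_of_mul_eq_mul_left (Nat.card_pos (α := Cfsg.sigmaCore M)) (h1.trans ?_)
  ring

theorem coprime_U_sigma (hG : Cfsg.IsMinSimpleOddOrder G) (hM : IsCoatom M)
    (h : Cfsg.IsSigmaDecomposition M K U) :
    (Nat.card U).Coprime (Nat.card (Cfsg.sigmaCore M)) :=
  Nat.coprime_of_dvd fun p hp h1 h2 => (SigmaHall.sigmaCore_isPiHallOf hG hM).2.2 p hp
    (mem_sigma_of_dvd hp h2) (by rw [relIndex_sigma h]; exact h1.mul_right _)

theorem coprime_K_rest (h : Cfsg.IsSigmaDecomposition M K U) :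
    (Nat.card K).Coprime (Nat.card U * Nat.card (Cfsg.sigmaCore M)) :=
  Nat.coprime_of_dvd fun p hp h1 h2 =>
    h.hall.2.2 p hp (h.hall.2.1 p hp h1) (by rw [relIndex_K h]; exact h2)

theorem K_eq_bot_iff (h : Cfsg.IsSigmaDecomposition M K U) :
    K = ⊥ ↔ Cfsg.kappa M = ∅ := by
  constructor
  · rintro rfl
    refine Set.eq_empty_iff_forall_notMem.2 fun p hp => ?_
    refine h.hall.2.2 p hp.1 hp ?_
    rw [Subgroup.relIndex_bot_left]
    exact hp.2.1
  · intro hk
    by_contra hK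
    obtain ⟨p, hp, hd⟩ := Nat.exists_prime_and_dvd (mt Subgroup.card_eq_one.1 hK)
    exact Set.eq_empty_iff_forall_notMem.1 hk p (h.hall.2.1 p hp hd)

theorem kappa_nonempty_iff (h : Cfsg.IsSigmaDecomposition M K U) :
    (Cfsg.kappa M).Nonempty ↔ K ≠ ⊥ := by
  rw [Set.nonempty_iff_ne_empty]
  exact (K_eq_bot_iff h).not.symm

theorem exists_decomp (R : Rows G) (hM : IsCoatom M) :
    ∃ K U : Subgroup G, Cfsg.IsSigmaDecomposition M K U := by
  obtain ⟨⟨K, hK⟩, hc⟩ := R.r1351 M hM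
  obtain ⟨⟨U, hU⟩, -⟩ := R.r1352 M hM K (hc K hK) hK
  exact ⟨K, U, hU⟩

theorem compl_of_K_bot (h : Cfsg.IsSigmaDecomposition M K U) (hK : K = ⊥) :
    Cfsg.IsComplIn (Cfsg.sigmaCore M) U M := by
  have h1 := h.compl
  rw [hK, bot_sup_eq] at h1
  exact isComplIn_symm h1

theorem derived_eq (R : Rows G) (hM : IsCoatom M) (h : Cfsg.IsSigmaDecomposition M K U)
    (hK : K ≠ ⊥) : ⁅M, M⁆ = U ⊔ Cfsg.sigmaCore M :=
  (R.r1365 M hM K U h hK).1

theorem card_derived (R : Rows G) (hG : Cfsg.IsMinSimpleOddOrder G) (hM : IsCoatom M)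
    (h : Cfsg.IsSigmaDecomposition M K U) (hK : K ≠ ⊥) :
    Nat.card ↥⁅M, M⁆ = Nat.card U * Nat.card (Cfsg.sigmaCore M) := by
  rw [derived_eq R hM h hK]
  exact Coprime.card_sup_of_disjoint (h.compl.1.trans (sigmaCore_normal M))
    (disjoint_iff.2 (inf_eq_bot_of_coprime (coprime_U_sigma hG hM h)))

theorem coprime_derived_K (R : Rows G) (hG : Cfsg.IsMinSimpleOddOrder G) (hM : IsCoatom M)
    (h : Cfsg.IsSigmaDecomposition M K U) (hK : K ≠ ⊥) :
    (Nat.card ↥⁅M, M⁆).Coprime (Nat.card K) := by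
  rw [card_derived R hG hM h hK]
  exact (coprime_K_rest h).symm

theorem compl_derived_K (R : Rows G) (hG : Cfsg.IsMinSimpleOddOrder G) (hM : IsCoatom M)
    (h : Cfsg.IsSigmaDecomposition M K U) (hK : K ≠ ⊥) : Cfsg.IsComplIn ⁅M, M⁆ K M :=
  isComplIn_of_card (TypeP.derived_le M) h.hall.1
    (inf_eq_bot_of_coprime (coprime_derived_K R hG hM h hK))
    (by rw [card_derived R hG hM h hK, card_eq h]; ring)

theorem compl_sigma_U (R : Rows G) (hG : Cfsg.IsMinSimpleOddOrder G) (hM : IsCoatom M)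
    (h : Cfsg.IsSigmaDecomposition M K U) (hK : K ≠ ⊥) :
    Cfsg.IsComplIn (Cfsg.sigmaCore M) U ⁅M, M⁆ :=
  isComplIn_of_card (R.r1355 M hM).2.2.1 (by rw [derived_eq R hM h hK]; exact le_sup_left)
    (inf_eq_bot_of_coprime (coprime_U_sigma hG hM h).symm)
    (by rw [card_derived R hG hM h hK]; ring)

theorem U_sup_normal (R : Rows G) (hM : IsCoatom M) (h : Cfsg.IsSigmaDecomposition M K U) :
    M ≤ Subgroup.normalizer ((U ⊔ Cfsg.sigmaCore M : Subgroup G) : Set G) :=
  (R.r1352 M hM K h.cyclic h.hall).2 U h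

theorem isSigmaDecomposition_conj (h : Cfsg.IsSigmaDecomposition M K U) {m : G} (hm : m ∈ M) :
    Cfsg.IsSigmaDecomposition M (K.map (MulAut.conj m).toMonoidHom)
      (U.map (MulAut.conj m).toMonoidHom) := by
  have hMm := General.map_conj_eq_of_mem_normalizer (Subgroup.le_normalizer hm)
  refine ⟨?_, ?_, ?_, ?_⟩
  · haveI := h.cyclic
    exact isCyclic_of_surjective _ (MonoidHom.subgroupMap_surjective _ K)
  · exact Hall.Coprime.isPiHallOf_conj h.hall m hMm
  · have h1 := General.isComplIn_map_conj h.compl m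
    rwa [hMm, Subgroup.map_sup,
      General.map_conj_eq_of_mem_normalizer (sigmaCore_normal M hm)] at h1
  · exact (Subgroup.map_mono h.normal).trans (Subgroup.le_normalizer_map _)

/-! ### Sylow subgroups for primes of `σ(M)` -/

theorem normalizer_le_of_sylow {p : ℕ} [Fact p.Prime] (hp : p ∈ Cfsg.sigma M) {P : Subgroup G}
    (hP : IsPGroup p P) (hPM : P ≤ M) (hidx : ¬ p ∣ P.relIndex M) :
    Subgroup.normalizer (P : Set G) ≤ M := by
  have hidx' : ¬ p ∣ (P.comap M.subtype).index := hidx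
  have h := Sigma.normalizer_le hp ((hP.comap_subtype (K := M)).toSylow hidx')
  rw [IsPGroup.toSylow_coe] at h
  rwa [← Subgroup.subgroupOf, Subgroup.map_subgroupOf_eq_of_le hPM] at h

theorem coprime_index_sigmaCore (hG : Cfsg.IsMinSimpleOddOrder G) (hM : IsCoatom M) :
    (Nat.card (Cfsg.sigmaCore M)).Coprime (Cfsg.sigmaCore M).index := by
  refine Nat.coprime_of_dvd fun p hp h1 h2 => ?_
  haveI := Fact.mk hp
  have hpσ := mem_sigma_of_dvd hp h1
  rw [← Subgroup.relIndex_mul_index (sigmaCore_le M)] at h2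
  rcases hp.dvd_mul.1 h2 with h3 | h3
  · exact (SigmaHall.sigmaCore_isPiHallOf hG hM).2.2 p hp hpσ h3
  · obtain ⟨S⟩ : Nonempty (Sylow p M) := inferInstance
    exact Sigma.not_dvd_index hpσ S (h3.trans (Subgroup.index_dvd_of_le (Subgroup.map_subtype_le _)))

end Cfsg.Agent.Lib.OddOrder.Types.Decomp
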