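import Cfsg.Agent.Lib.OddOrder.TypeOne
import Cfsg.Agent.Lib.OddOrder.Types.Decomp
import Cfsg.Agent.Lib.OddOrder.MaximalBasics
import Cfsg.Agent.Lib.Balance.OddInvariant

/-!
# BG 16.1: the types of the maximal subgroups

`M = K U M_σ` is of type I, II, III-IV, V according as `K = 1`, `U ≠ 1`, `U = 1` with `M_F ≠ M_σ`,
`U = 1` with `M_F = M_σ`.
-/

set_option autoImplicit false
set_option linter.style.haveILetI false
set_option linter.unusedSectionVars false

open scoped Pointwise commutatorElement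

namespace Cfsg.Agent.Lib.OddOrder.Types.Classify

open Cfsg.Agent.Lib.OddOrder.MinSimple Cfsg.Agent.Lib.OddOrder.Basic
open Cfsg.Agent.Lib.OddOrder.Types.Decomp

universe u

variable {G : Type u} [Group G] [Finite G] {M K U : Subgroup G}

/-- The subgroup `K* = C_{M_σ}(K)`. -/
abbrev kStar (M K : Subgroup G) : Subgroup G :=
  Cfsg.sigmaCore M ⊓ Subgroup.centralizer (K : Set G)

theorem kStar_le_derived (R : Rows G) (hM : IsCoatom M) (K : Subgroup G) :
    kStar M K ≤ ⁅M, M⁆ := inf_le_left.trans (R.r1355 M hM).2.2.1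

theorem commute_kStar {a b : G} (ha : a ∈ K) (hb : b ∈ kStar M K) : a * b = b * a :=
  Subgroup.mem_centralizer_iff.1 hb.2 a ha

theorem K_inf_kStar (h : Cfsg.IsSigmaDecomposition M K U) : K ⊓ kStar M K = ⊥ :=
  le_bot_iff.1 ((inf_le_inf_left _ inf_le_left).trans
    (inf_eq_bot_of_coprime (coprime_K_sigma h)).le)

theorem derived_centralizer (R : Rows G) (hG : Cfsg.IsMinSimpleOddOrder G) (hM : IsCoatom M)
    (h : Cfsg.IsSigmaDecomposition M K U) (hK : K ≠ ⊥) {x : G} (hx : x ∈ K) (hx1 : x ≠ 1) :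
    ⁅M, M⁆ ⊓ Subgroup.centralizer ({x} : Set G) = kStar M K := by
  refine le_antisymm (fun y hy => ?_) (le_inf (kStar_le_derived R hM K)
    (inf_le_right.trans (Subgroup.centralizer_le (Set.singleton_subset_iff.2 hx))))
  have h1 : y ∈ K ⊔ kStar M K := by
    show y ∈ K ⊔ (Cfsg.sigmaCore M ⊓ Subgroup.centralizer (K : Set G))
    rw [← (R.r1354 M hM K h.cyclic h.hall).2 hK x hx hx1]
    exact ⟨TypeP.derived_le M hy.1, hy.2⟩
  obtain ⟨a, ha, b, hb, rfl⟩ :=
    (Cyclic.isComplIn_sup_of_commute (fun a ha b hb => commute_kStar ha hb) (K_inf_kStar h)).2.2.2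
      y h1
  have ha' : a ∈ ⁅M, M⁆ ⊓ K :=
    ⟨(mul_mem_cancel_right (kStar_le_derived R hM K hb)).1 hy.1, ha⟩
  rw [(compl_derived_K R hG hM h hK).2.2.1, Subgroup.mem_bot] at ha'
  rwa [ha', one_mul]

theorem selfNormalizing (R : Rows G) (hM : IsCoatom M) (h : Cfsg.IsSigmaDecomposition M K U)
    (hK : K ≠ ⊥) : Cfsg.IsSelfNormalizingCyclic K (kStar M K) := by
  obtain ⟨hc, hne, -, -⟩ := R.r1364 M hM K U h hK
  obtain ⟨hTI, hN⟩ := R.r1370 M hM K U h hK
  have hcomm : ∀ a ∈ K, ∀ b ∈ kStar M K, a * b = b * a := fun a ha b hb => commute_kStar ha hb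
  have hcompl := Cyclic.isComplIn_sup_of_commute hcomm (K_inf_kStar h)
  have hcyc : IsCyclic ↥(K ⊔ kStar M K) := by
    haveI := h.cyclic
    haveI : IsCyclic ↥(kStar M K) := hc
    obtain ⟨a, ha⟩ := IsCyclic.exists_ofOrder_eq_natCard (α := K)
    obtain ⟨b, hb⟩ := IsCyclic.exists_ofOrder_eq_natCard (α := ↥(kStar M K))
    refine isCyclic_of_orderOf_eq_card (⟨(a : G) * b,
      mul_mem (Subgroup.mem_sup_left a.2) (Subgroup.mem_sup_right b.2)⟩ : ↥(K ⊔ kStar M K)) ?_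
    rw [Subgroup.orderOf_mk, ← isComplIn_card hcompl,
      Commute.orderOf_mul_eq_mul_orderOf_of_coprime (hcomm a a.2 b b.2) ?_, Subgroup.orderOf_coe,
      Subgroup.orderOf_coe, ha, hb]
    rw [Subgroup.orderOf_coe, Subgroup.orderOf_coe, ha, hb]
    exact (coprime_K_sigma h).coprime_dvd_right (Subgroup.card_dvd_of_le inf_le_left)
  refine ⟨hK, hne, K_inf_kStar h, hcomm, hcyc, fun X hX hXne => le_antisymm (fun g hg => ?_) ?_⟩
  · obtain ⟨z, hz⟩ := hXne
    by_contra hgZ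
    have h1 : g * z * g⁻¹ ∈ X := (Subgroup.mem_set_normalizer_iff.1 hg z).1 hz
    have h2 := hTI g (by rw [hN]; exact hgZ) z (hX hz) (hX h1)
    exact (hX hz).2 (Or.inl (h2 ▸ K.one_mem))
  · haveI := hcyc
    refine Subgroup.le_set_normalizer_iff.2 fun g hg y hy => ?_
    have e := congrArg Subtype.val
      (mul_comm' (⟨g, hg⟩ : ↥(K ⊔ kStar M K)) ⟨y, (hX hy).1⟩)
    simp only [Subgroup.coe_mul] at e
    rwa [e, mul_inv_cancel_right]

/-- The data of type `P`, for any `K`-invariant nilpotent complement `D` of `M_F` in `M'`. -/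
theorem typeP_of_compl (R : Rows G) (hG : Cfsg.IsMinSimpleOddOrder G) (hM : IsCoatom M)
    (h : Cfsg.IsSigmaDecomposition M K U) (hK : K ≠ ⊥) {D : Subgroup G}
    (hD : Group.IsNilpotent D) (hKD : K ≤ Subgroup.normalizer (D : Set G))
    (hc : Cfsg.IsComplIn (Cfsg.fittingHallOf M) D ⁅M, M⁆) :
    Cfsg.IsTypePWith M K D (kStar M K) := by
  obtain ⟨-, -, hle, hnc⟩ := R.r1364 M hM K U h hK
  obtain ⟨h2, hFeq, hF⟩ := R.r1356 M hM
  refine ⟨hK, h.cyclic, ?_, compl_derived_K R hG hM h hK, hD, hKD, hc, hnc, ?_,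
    by rw [hFeq, sup_comm], hF ((kappa_nonempty_iff h).2 hK), le_inf hle (R.r1365 M hM K U h hK).2,
    fun x hx hx1 => derived_centralizer R hG hM h hK hx hx1, selfNormalizing R hM h hK⟩
  · rw [relIndex_K h]
    exact coprime_K_rest h
  · refine h2.trans (le_of_eq ?_)
    rw [hFeq, sup_comm]

/-- A `K`-invariant nilpotent complement of `M_F` in `M'`. -/
theorem exists_compl_fittingHall (R : Rows G) (hG : Cfsg.IsMinSimpleOddOrder G) (hM : IsCoatom M)
    (h : Cfsg.IsSigmaDecomposition M K U) (hK : K ≠ ⊥) :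
    ∃ D : Subgroup G, Group.IsNilpotent D ∧ K ≤ Subgroup.normalizer (D : Set G) ∧
      Cfsg.IsComplIn (Cfsg.fittingHallOf M) D ⁅M, M⁆ := by
  obtain ⟨-, hHσ, hσd, -, hnil⟩ := R.r1355 M hM
  have hHd : Cfsg.fittingHallOf M ≤ ⁅M, M⁆ := hHσ.trans hσd
  have hn : M ≤ Subgroup.normalizer ((⁅M, M⁆ : Subgroup G) : Set G) :=
    Subgroup.map_subtype_commutator M ▸ le_normalizer_map_subtype M _
  haveI := solvable_of_ne_top hG hM.1
  obtain ⟨D, hD, hKD⟩ := Hall.Coprime.exists_invariant (h.hall.1.trans hn)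
    (coprime_derived_K R hG hM h hK).symm (Coprime.isSolvable_of_le (TypeP.derived_le M))
    (Cfsg.primesNotDvd (Nat.card (Cfsg.fittingHallOf M)))
  have hcop : (Nat.card (Cfsg.fittingHallOf M)).Coprime (Nat.card D) :=
    Nat.coprime_of_dvd fun q hq h1 h2 => (hD.2.1 q hq h2).2 h1
  have hc : Cfsg.IsComplIn (Cfsg.fittingHallOf M) D ⁅M, M⁆ := by
    refine isComplIn_of_card hHd hD.1 (inf_eq_bot_of_coprime hcop) (Nat.dvd_antisymm ?_
      (hcop.mul_dvd_of_dvd_of_dvd (Subgroup.card_dvd_of_le hHd) (Subgroup.card_dvd_of_le hD.1)))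
    have h1 := Subgroup.relIndex_mul_relIndex (⊥ : Subgroup G) D _ bot_le hD.1
    have h2 := Subgroup.relIndex_mul_relIndex (⊥ : Subgroup G) _ _ bot_le hHd
    rw [Subgroup.relIndex_bot_left, Subgroup.relIndex_bot_left] at h1 h2
    rw [← h1, mul_comm (Nat.card (Cfsg.fittingHallOf M))]
    refine Nat.mul_dvd_mul_left _ ?_
    have h3 : (D.relIndex ⁅M, M⁆).Coprime ((Cfsg.fittingHallOf M).relIndex ⁅M, M⁆) := by
      refine Nat.coprime_of_dvd fun q hq a b => ?_
      by_cases hqH : q ∣ Nat.card (Cfsg.fittingHallOf M)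
      · have h4 : (Cfsg.fittingHallOf M).relIndex ⁅M, M⁆ ∣ (Cfsg.fittingHallOf M).relIndex M := by
          rw [← Subgroup.relIndex_mul_relIndex _ ⁅M, M⁆ M hHd (TypeP.derived_le M)]
          exact dvd_mul_right _ _
        exact hq.ne_one (Nat.eq_one_of_dvd_coprimes (fittingHallOf_coprime M) hqH (b.trans h4))
      · exact hD.2.2 q hq ⟨hq, hqH⟩ a
    refine h3.dvd_of_dvd_mul_right ?_
    exact h2.symm ▸ h1 ▸ dvd_mul_left _ _
  refine ⟨D, ?_, hKD, hc⟩
  haveI := hnil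
  set π := QuotientGroup.mk' (Cfsg.fittingHall ↥M) with hπ
  let f : D →* ↥((commutator ↥M).map π) :=
    (π.comp (Subgroup.inclusion (hD.1.trans (TypeP.derived_le M)))).codRestrict _ fun d => by
      have hd : (d : G) ∈ ⁅M, M⁆ := hD.1 d.2
      rw [← Subgroup.map_subtype_commutator] at hd
      obtain ⟨y, hy, e⟩ := hd
      exact ⟨y, hy, congrArg π (Subtype.ext e)⟩
  suffices hf : Function.Injective f by
    exact Group.nilpotent_of_mulEquiv (MonoidHom.ofInjective hf).symm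
  rw [← MonoidHom.ker_eq_bot_iff, Subgroup.eq_bot_iff_forall]
  intro d hd
  have h5 : Subgroup.inclusion (hD.1.trans (TypeP.derived_le M)) d ∈ Cfsg.fittingHall ↥M :=
    (QuotientGroup.eq_one_iff _).1 (congrArg Subtype.val (MonoidHom.mem_ker.1 hd))
  have h6 : (d : G) ∈ Cfsg.fittingHallOf M ⊓ D := ⟨⟨_, h5, rfl⟩, d.2⟩
  rw [hc.2.2.1, Subgroup.mem_bot] at h6
  exact Subtype.ext h6

theorem isTI_fittingHall (hG : Cfsg.IsMinSimpleOddOrder G) (hM : IsCoatom M)
    (h : Cfsg.IsTISubset (Cfsg.fittingOf M : Set G)) :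
    Cfsg.IsTISubset (Cfsg.fittingHallOf M : Set G) := by
  intro g hg x hx hxg
  refine h g (fun hg' => hg ?_) x (fittingHallOf_le_fittingOf M hx) (fittingHallOf_le_fittingOf M hxg)
  have hN : Subgroup.normalizer (Cfsg.fittingOf M : Set G) = M :=
    normalizer_eq_of_coatom hG hM (Subgroup.map_subtype_le _) (fittingOf_ne_bot hG hM)
      (fittingOf_normal M)
  rw [hN] at hg'
  exact fittingHallOf_normal M hg'

theorem exists_meet (hG : Cfsg.IsMinSimpleOddOrder G) (hM : IsCoatom M)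
    (h : ¬ Cfsg.IsTISubset (Cfsg.fittingHallOf M : Set G)) :
    ∃ g : G, g ∉ M ∧
      Cfsg.fittingOf M ⊓ (Cfsg.fittingOf M).map (MulAut.conj g).toMonoidHom ≠ ⊥ := by
  have h' : ¬ Cfsg.IsTISubset (Cfsg.fittingOf M : Set G) := fun h'' => h (isTI_fittingHall hG hM h'')
  simp only [Cfsg.IsTISubset, not_forall] at h'
  obtain ⟨g, hg, x, hx, hxg, hx1⟩ := h'
  refine ⟨g, fun hgM => hg (fittingOf_normal M hgM), fun e => hx1 ?_⟩
  have h1 : g * x * g⁻¹ ∈ Cfsg.fittingOf M ⊓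
      (Cfsg.fittingOf M).map (MulAut.conj g).toMonoidHom := ⟨hxg, General.conj_mem_map_conj hx⟩
  rw [e, Subgroup.mem_bot] at h1
  exact conj_eq_one_iff.1 h1

theorem H_eq_sigma (R : Rows G) (hM : IsCoatom M) (h : Cfsg.IsSigmaDecomposition M K U)
    (h' : K = ⊥ ∨ U ≠ ⊥) : Cfsg.fittingHallOf M = Cfsg.sigmaCore M := by
  by_contra hne
  obtain ⟨hU, -, hp⟩ := R.r1357 M hM K U h hne
  rcases h' with rfl | h'
  · rw [Subgroup.card_bot] at hp
    exact Nat.not_prime_one hp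
  · exact h' hU

theorem U_ne_bot (R : Rows G) (hM : IsCoatom M) (h : Cfsg.IsSigmaDecomposition M K U)
    (hK : K = ⊥) : U ≠ ⊥ := by
  intro hU
  obtain ⟨-, -, hσd, hlt, -⟩ := R.r1355 M hM
  have h1 := isComplIn_sup (compl_of_K_bot h hK)
  rw [hU, sup_bot_eq] at h1
  exact hlt.not_ge (le_of_eq_of_le h1.symm hσd)

/-- `M_σ`, `U` inside a subgroup `D` they factorise, give a group of type F. -/
theorem typeF_of (R : Rows G) (hM : IsCoatom M) (h : Cfsg.IsSigmaDecomposition M K U) (hU : U ≠ ⊥)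
    (hG : Cfsg.IsMinSimpleOddOrder G) {D : Subgroup G} (hDM : D ≤ M)
    (hDH : Cfsg.fittingHallOf D = Cfsg.sigmaCore M)
    (hc : Cfsg.IsComplIn (Cfsg.sigmaCore M) U D) : Cfsg.IsOfTypeF ↥D := by
  haveI := solvable_of_ne_top hG hM.1
  have hH : Cfsg.fittingHall ↥D = (Cfsg.sigmaCore M).subgroupOf D := by
    rw [← hDH, Cfsg.fittingHallOf, Subgroup.subgroupOf,
      Subgroup.comap_map_eq_self_of_injective D.subtype_injective]
  have hUD : U ≤ D := hc.2.1
  have hU' : U.subgroupOf D ≠ ⊥ := fun e => hU (le_bot_iff.1 (by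
    rw [← Subgroup.map_subgroupOf_eq_of_le hUD, e, Subgroup.map_bot]))
  have hcomp : Subgroup.IsComplement' (Cfsg.fittingHall ↥D) (U.subgroupOf D) := by
    rw [hH]
    refine Subgroup.isComplement'_of_card_mul_and_disjoint ?_ ?_
    · rw [NormedConstrained.card_subgroupOf_eq hc.1, NormedConstrained.card_subgroupOf_eq hUD,
        isComplIn_card hc]
    · rw [disjoint_iff, Subgroup.eq_bot_iff_forall]
      intro y hy
      have h1 : (y : G) ∈ Cfsg.sigmaCore M ⊓ U := ⟨hy.1, hy.2⟩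
      rw [hc.2.2.1, Subgroup.mem_bot] at h1
      exact Subtype.ext h1
  refine ⟨Coprime.isSolvable_of_le hDM, MinSimple.odd_card hG D, ?_, ?_, U.subgroupOf D, hU',
    hcomp, ?_, ?_⟩
  · intro e
    rw [hH] at e
    exact sigmaCore_ne_bot R hM (le_bot_iff.1 (by
      rw [← Subgroup.map_subgroupOf_eq_of_le hc.1, e, Subgroup.map_bot]))
  · intro e
    rw [e] at hcomp
    exact hU' (Subgroup.isComplement'_top_left.1 hcomp)
  · set U₁ := Subgroup.closure ((U : Set G) ∩ Cfsg.sigmaHat M) with hU₁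
    have hU₁U : U₁ ≤ U := (Subgroup.closure_le _).2 fun a ha => ha.1
    refine ⟨U₁.subgroupOf D, Subgroup.comap_mono hU₁U, ?_, ?_, ?_⟩
    · refine (Subgroup.comap_mono ?_).trans (Subgroup.le_normalizer_comap _)
      have key : ∀ v ∈ U, U₁.map (MulAut.conj v).toMonoidHom ≤ U₁ := by
        intro v hv
        rw [hU₁, MonoidHom.map_closure, Subgroup.closure_le]
        rintro _ ⟨a, ⟨haU, haM, y, hy, hy1, hay⟩, rfl⟩
        refine Subgroup.subset_closure ⟨mul_mem (mul_mem hv haU) (inv_mem hv),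
          mul_mem (mul_mem (h.compl.1 hv) haM) (inv_mem (h.compl.1 hv)), v * y * v⁻¹,
          (Subgroup.mem_normalizer_iff.1 (sigmaCore_normal M (h.compl.1 hv)) y).1 hy,
          fun e => hy1 (conj_eq_one_iff.1 e), ?_⟩
        show v * a * v⁻¹ * (v * y * v⁻¹) = v * y * v⁻¹ * (v * a * v⁻¹)
        calc v * a * v⁻¹ * (v * y * v⁻¹) = v * (a * y) * v⁻¹ := by group
          _ = v * (y * a) * v⁻¹ := by rw [hay]
          _ = v * y * v⁻¹ * (v * a * v⁻¹) := by group
      intro v hv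
      refine General.mem_normalizer_of_map_conj_eq (le_antisymm (key v hv) fun a ha => ?_)
      exact General.mem_map_conj.2 (by
        simpa [General.mem_map_conj] using
          key v⁻¹ (inv_mem hv) (General.conj_mem_map_conj (g := v⁻¹) ha))
    · haveI := R.r1359 M hM K U h
      exact ⟨⟨fun a b => Subtype.ext (Subtype.ext (congrArg (fun z : U₁ => (z : G))
        (mul_comm' (⟨((a : D) : G), a.2⟩ : U₁) ⟨((b : D) : G), b.2⟩)))⟩⟩
    · intro x hx hx1 v hv
      rw [hH] at hx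
      refine Subgroup.subset_closure ⟨hv.1, h.compl.1 hv.1, x, hx, fun e => hx1 (Subtype.ext e), ?_⟩
      exact congrArg Subtype.val (Subgroup.mem_centralizer_singleton_iff.1 hv.2)
  · obtain ⟨U₀, hU₀, hexp, hfix⟩ := R.r1360 M hM K U h
    refine ⟨U₀.subgroupOf D, Subgroup.comap_mono hU₀, ?_, ?_⟩
    · rw [Monoid.exponent_eq_of_mulEquiv (Subgroup.subgroupOfEquivOfLe (hU₀.trans hUD)),
        Monoid.exponent_eq_of_mulEquiv (Subgroup.subgroupOfEquivOfLe hUD), hexp]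
    · intro v hv hv1 x hx hvx
      rw [hH] at hx
      by_contra hx1
      exact hv1 (Subtype.ext (hfix v hv ⟨h.compl.1 (hU₀ hv), x, hx,
        fun e => hx1 (Subtype.ext e), congrArg Subtype.val hvx⟩))

theorem typeI_of (hG : Cfsg.IsMinSimpleOddOrder G) (R : Rows G) (hM : IsCoatom M)
    (h : Cfsg.IsSigmaDecomposition M K U) (hK : K = ⊥) : Cfsg.Agent.Lib.OddOrder.TypeOne.IsTypeI M := by
  have hU := U_ne_bot R hM h hK
  have hHσ := H_eq_sigma R hM h (Or.inl hK)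
  refine ⟨typeF_of R hM h hU hG le_rfl hHσ (compl_of_K_bot h hK), ?_⟩
  by_cases hTI : Cfsg.IsTISubset (Cfsg.fittingHallOf M : Set G)
  · exact Or.inl hTI
  obtain ⟨g, hg, hX⟩ := exists_meet hG hM hTI
  obtain ⟨⟨hXH, -⟩, -, hcases⟩ := R.r1440 M hM K U h g hg hX
  rcases hcases with ⟨-, ha, hb, hc⟩ | ⟨p, hp, hXp, hpσ, -, -, hQ, hexp⟩ | ⟨p, -, -, -, -, -, -, -, hK', -⟩
  · exact Or.inr (Or.inl ⟨ha, hb, hc⟩)
  · exact Or.inr (Or.inr ⟨hexp, p, hp, hXp ▸ Subgroup.card_dvd_of_le hXH, hQ⟩)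
  · exact absurd hK hK'

theorem typeII_of (hG : Cfsg.IsMinSimpleOddOrder G) (R : Rows G) (hM : IsCoatom M)
    (h : Cfsg.IsSigmaDecomposition M K U) (hK : K ≠ ⊥) (hU : U ≠ ⊥) : Cfsg.IsOfTypeII M := by
  obtain ⟨habU, hN⟩ := R.r1363 M hM K U h hK
  obtain ⟨hKp, hTI, -⟩ := R.r1372 M hM K U h hK hU
  have hHσ := H_eq_sigma R hM h (Or.inr hU)
  have hc := compl_sigma_U R hG hM h hK
  haveI := habU
  have hUn : Group.IsNilpotent U := by
    open scoped IsMulCommutative in infer_instance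
  refine ⟨K, U, kStar M K, typeP_of_compl R hG hM h hK hUn h.normal
    (hHσ.symm ▸ hc), hU, hKp, hTI, habU, hN, ?_⟩
  have heq : Cfsg.fittingHallOf ⁅M, M⁆ = Cfsg.fittingHallOf M := by
    refine General.fittingHallOf_eq_of_normalHall (TypeP.derived_le M)
      (Subgroup.map_subtype_commutator M ▸ le_normalizer_map_subtype M _) ?_
      (hHσ.le.trans (R.r1355 M hM).2.2.1)
    rw [isComplIn_relIndex (compl_derived_K R hG hM h hK)]
    exact coprime_derived_K R hG hM h hK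
  exact ⟨typeF_of R hM h hU hG (TypeP.derived_le M) (heq.trans hHσ) hc, heq⟩

theorem typeIII_IV_of (hG : Cfsg.IsMinSimpleOddOrder G) (R : Rows G) (hM : IsCoatom M)
    (h : Cfsg.IsSigmaDecomposition M K U) (hK : K ≠ ⊥) (hU : U = ⊥)
    (hne : Cfsg.fittingHallOf M ≠ Cfsg.sigmaCore M) :
    Cfsg.IsOfTypeIII M ∨ Cfsg.IsOfTypeIV M := by
  obtain ⟨-, hTI, hKp⟩ := R.r1357 M hM K U h hne
  obtain ⟨D, hD, hKD, hc⟩ := exists_compl_fittingHall R hG hM h hK
  have hder : ⁅M, M⁆ = Cfsg.sigmaCore M := by rw [derived_eq R hM h hK, hU, bot_sup_eq]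
  have hP := typeP_of_compl R hG hM h hK hD hKD hc
  have hD1 : D ≠ ⊥ := fun e => hne (by
    rw [← hder, ← isComplIn_sup hc, e, sup_bot_eq])
  have hN : Subgroup.normalizer (D : Set G) ≤ M := by
    obtain ⟨r, hr, hrd⟩ := Nat.exists_prime_and_dvd (mt Subgroup.card_eq_one.1 hD1)
    haveI := Fact.mk hr
    haveI := hD
    have hDσ : D ≤ Cfsg.sigmaCore M := hder ▸ hc.2.1
    have hrσ := mem_sigma_of_dvd hr (hrd.trans (Subgroup.card_dvd_of_le hDσ))
    obtain ⟨S⟩ : Nonempty (Sylow r D) := inferInstance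
    haveI : (S : Subgroup D).Normal :=
      Sylow.normal_of_normalizerCondition Group.normalizerCondition_of_isNilpotent S
    haveI : (S : Subgroup D).Characteristic := S.characteristic_of_normal inferInstance
    refine (Balance.le_normalizer_map_characteristic (S : Subgroup D)).trans
      (normalizer_le_of_sylow hrσ (S.2.map _)
        ((Subgroup.map_subtype_le _).trans (hDσ.trans (sigmaCore_le M))) fun hd => ?_)
    rw [← Subgroup.relIndex_mul_relIndex _ D M (Subgroup.map_subtype_le _)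
      (hDσ.trans (sigmaCore_le M)), relIndex_map_subtype] at hd
    rcases hr.dvd_mul.1 hd with h1 | h1
    · exact S.not_dvd_index h1
    · rw [← Subgroup.relIndex_mul_relIndex D ⁅M, M⁆ M hc.2.1 (TypeP.derived_le M),
        isComplIn_relIndex (isComplIn_symm hc),
        isComplIn_relIndex (compl_derived_K R hG hM h hK)] at h1
      rcases hr.dvd_mul.1 h1 with h2 | h2
      · exact hr.ne_one (Nat.eq_one_of_dvd_coprimes (TypeP.coprime_H_U hP) h2 hrd)
      · exact (h.hall.2.1 r hr h2).2.2.1 hrσ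
  by_cases hab : IsMulCommutative D
  · exact Or.inl ⟨K, D, _, hP, hD1, hKp, hTI, hab, hN⟩
  · exact Or.inr ⟨K, D, _, hP, hD1, hKp, hTI, hab, hN⟩

theorem typeV_of (hG : Cfsg.IsMinSimpleOddOrder G) (R : Rows G) (hM : IsCoatom M)
    (h : Cfsg.IsSigmaDecomposition M K U) (hK : K ≠ ⊥) (hU : U = ⊥)
    (hHσ : Cfsg.fittingHallOf M = Cfsg.sigmaCore M) : Cfsg.IsOfTypeV M := by
  have hder : ⁅M, M⁆ = Cfsg.sigmaCore M := by rw [derived_eq R hM h hK, hU, bot_sup_eq]
  have hc : Cfsg.IsComplIn (Cfsg.fittingHallOf M) ⊥ ⁅M, M⁆ := by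
    rw [hder, hHσ]
    exact ⟨le_rfl, bot_le, inf_bot_eq _, fun m hm => ⟨m, hm, 1, one_mem _, (mul_one m).symm⟩⟩
  refine ⟨K, ⊥, kStar M K, typeP_of_compl R hG hM h hK inferInstance ?_ hc, rfl, ?_⟩
  · exact le_of_le_of_eq le_top (Subgroup.normalizer_eq_top_iff.2 inferInstance).symm
  by_cases hTI : Cfsg.IsTISubset (Cfsg.fittingHallOf M : Set G)
  · exact Or.inl hTI
  obtain ⟨g, hg, hX⟩ := exists_meet hG hM hTI
  obtain ⟨⟨hXH, -⟩, -, hcases⟩ := R.r1440 M hM K U h g hg hX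
  have hidx : (Cfsg.fittingHallOf M).relIndex M = Nat.card K := by
    rw [hHσ, relIndex_sigma h, hU, Subgroup.card_bot, one_mul]
  rcases hcases with ⟨hK', -⟩ | ⟨p, hp, hXp, -, -, -, hQ, hexp⟩ |
    ⟨p, hp, hXp, -, -, hQ, hcard, -, -, -, hdvd⟩
  · exact absurd hK' hK
  · have hpH := hXp ▸ Subgroup.card_dvd_of_le hXH
    refine Or.inr (Or.inl ⟨p, hp, hpH, ?_, hQ⟩)
    refine dvd_trans ?_ (hexp p hp hpH)
    haveI := h.cyclic
    rw [← IsCyclic.exponent_eq_card (α := K)]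
    refine Monoid.exponent_dvd_of_monoidHom
      ((QuotientGroup.mk' (Cfsg.fittingHall ↥M)).comp (Subgroup.inclusion h.hall.1)) ?_
    rw [← MonoidHom.ker_eq_bot_iff, Subgroup.eq_bot_iff_forall]
    intro k hk
    have h1 : Subgroup.inclusion h.hall.1 k ∈ Cfsg.fittingHall ↥M :=
      (QuotientGroup.eq_one_iff _).1 (MonoidHom.mem_ker.1 hk)
    have h2 : (k : G) ∈ K ⊓ Cfsg.sigmaCore M := ⟨k.2, hHσ ▸ ⟨_, h1, rfl⟩⟩
    rw [inf_eq_bot_of_coprime (coprime_K_sigma h), Subgroup.mem_bot] at h2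
    exact Subtype.ext h2
  · exact Or.inr (Or.inr ⟨p, hp, hXp ▸ Subgroup.card_dvd_of_le hXH, hcard, hidx ▸ hdvd, hQ⟩)

theorem typeP_of (hG : Cfsg.IsMinSimpleOddOrder G) (R : Rows G) (hM : IsCoatom M)
    (h : Cfsg.IsSigmaDecomposition M K U) (hK : K ≠ ⊥) : Cfsg.IsOfTypeP M := by
  obtain ⟨D, hD, hKD, hc⟩ := exists_compl_fittingHall R hG hM h hK
  exact ⟨K, D, _, typeP_of_compl R hG hM h hK hD hKD hc⟩

theorem typeI_iff (hG : Cfsg.IsMinSimpleOddOrder G) (R : Rows G) (hM : IsCoatom M)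
    (h : Cfsg.IsSigmaDecomposition M K U) : Cfsg.Agent.Lib.OddOrder.TypeOne.IsTypeI M ↔ K = ⊥ ∧ U ≠ ⊥ := by
  refine ⟨fun hI => ?_, fun hK => typeI_of hG R hM h hK.1⟩
  by_cases hK : K = ⊥
  · exact ⟨hK, U_ne_bot R hM h hK⟩
  · exact (General.not_typeI_of_typeP hI (typeP_of hG R hM h hK)).elim

theorem solvable_derived (hG : Cfsg.IsMinSimpleOddOrder G) (hM : IsCoatom M) :
    Group.IsSolvable ↥⁅M, M⁆ :=
  haveI := solvable_of_ne_top hG hM.1
  Coprime.isSolvable_of_le (TypeP.derived_le M)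

theorem typeII_iff (hG : Cfsg.IsMinSimpleOddOrder G) (R : Rows G) (hM : IsCoatom M)
    (h : Cfsg.IsSigmaDecomposition M K U) : Cfsg.IsOfTypeII M ↔ K ≠ ⊥ ∧ U ≠ ⊥ := by
  refine ⟨fun hII => ?_, fun hK => typeII_of hG R hM h hK.1 hK.2⟩
  have hs := solvable_derived hG hM
  have hK : K ≠ ⊥ := fun hK => General.not_typeI_of_typeP (typeI_of hG R hM h hK)
    (General.typeII_typeP hII)
  refine ⟨hK, fun hU => ?_⟩
  by_cases hne : Cfsg.fittingHallOf M = Cfsg.sigmaCore M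
  · exact General.not_typeV_and_other hs (typeV_of hG R hM h hK hU hne) (Or.inl hII)
  · exact General.not_typeII_and_III_IV hs hII (typeIII_IV_of hG R hM h hK hU hne)

theorem typeIII_IV_iff (hG : Cfsg.IsMinSimpleOddOrder G) (R : Rows G) (hM : IsCoatom M)
    (h : Cfsg.IsSigmaDecomposition M K U) :
    (Cfsg.IsOfTypeIII M ∨ Cfsg.IsOfTypeIV M) ↔
      K ≠ ⊥ ∧ U = ⊥ ∧ Cfsg.fittingHallOf M ≠ Cfsg.sigmaCore M := by
  refine ⟨fun hT => ?_, fun hK => typeIII_IV_of hG R hM h hK.1 hK.2.1 hK.2.2⟩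
  have hs := solvable_derived hG hM
  have hK : K ≠ ⊥ := fun hK => General.not_typeI_of_typeP (typeI_of hG R hM h hK)
    (hT.elim General.typeIII_typeP General.typeIV_typeP)
  have hU : U = ⊥ := by
    by_contra hU
    exact General.not_typeII_and_III_IV hs (typeII_of hG R hM h hK hU) hT
  exact ⟨hK, hU, fun hne =>
    General.not_typeV_and_other hs (typeV_of hG R hM h hK hU hne) (Or.inr hT)⟩

theorem typeV_iff (hG : Cfsg.IsMinSimpleOddOrder G) (R : Rows G) (hM : IsCoatom M)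
    (h : Cfsg.IsSigmaDecomposition M K U) :
    Cfsg.IsOfTypeV M ↔ K ≠ ⊥ ∧ U = ⊥ ∧ Cfsg.fittingHallOf M = Cfsg.sigmaCore M := by
  refine ⟨fun hV => ?_, fun hK => typeV_of hG R hM h hK.1 hK.2.1 hK.2.2⟩
  have hs := solvable_derived hG hM
  have hK : K ≠ ⊥ := fun hK => General.not_typeI_of_typeP (typeI_of hG R hM h hK)
    (General.typeV_typeP hV)
  have hU : U = ⊥ := by
    by_contra hU
    exact General.not_typeV_and_other hs hV (Or.inl (typeII_of hG R hM h hK hU))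
  refine ⟨hK, hU, ?_⟩
  by_contra hne
  exact General.not_typeV_and_other hs hV (Or.inr (typeIII_IV_of hG R hM h hK hU hne))

/-- `M_s = M_σ` for every type. -/
theorem typeCore_eq (hG : Cfsg.IsMinSimpleOddOrder G) (R : Rows G) (hM : IsCoatom M) :
    Cfsg.typeCore M = Cfsg.sigmaCore M := by
  obtain ⟨K, U, h⟩ := exists_decomp R hM
  rw [Cfsg.typeCore]
  split_ifs with hT
  · obtain ⟨hK, hU, -⟩ := (typeIII_IV_iff hG R hM h).1 hT
    rw [derived_eq R hM h hK, hU, bot_sup_eq]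
  · by_contra hne
    refine hne (H_eq_sigma R hM h ?_)
    by_contra hc
    push Not at hc
    exact hT (typeIII_IV_of hG R hM h hc.1 hc.2 hne)

/-- BG 16.2: normalizers of the Sylow subgroups of `M_s`; `M_F` and `M_s` are Hall subgroups. -/
theorem normalizer_and_hall (hG : Cfsg.IsMinSimpleOddOrder G) (R : Rows G) (hM : IsCoatom M) :
    (∀ (p : ℕ), p.Prime → ∀ (P : Sylow p ↥(Cfsg.typeCore M)),
        (P : Subgroup ↥(Cfsg.typeCore M)) ≠ ⊥ →
        Subgroup.normalizer ((((P : Subgroup ↥(Cfsg.typeCore M)).map (Cfsg.typeCore M).subtype :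
          Subgroup G)) : Set G) ≤ M) ∧
      (Nat.card (Cfsg.fittingHallOf M)).Coprime (Cfsg.fittingHallOf M).index ∧
      (Nat.card (Cfsg.typeCore M)).Coprime (Cfsg.typeCore M).index := by
  have hs := typeCore_eq hG R hM
  refine ⟨fun p hp P hP1 => ?_, ?_, hs ▸ coprime_index_sigmaCore hG hM⟩
  · haveI := Fact.mk hp
    have hle : (P : Subgroup ↥(Cfsg.typeCore M)).map (Cfsg.typeCore M).subtype ≤
        Cfsg.sigmaCore M := (Subgroup.map_subtype_le _).trans hs.le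
    have hpd : p ∣ Nat.card (Cfsg.sigmaCore M) := by
      obtain ⟨r, hr, hd⟩ := Nat.exists_prime_and_dvd (mt Subgroup.card_eq_one.1 hP1)
      rw [Hall.prime_dvd_pgroup hp hr P.2 hd] at hd
      rw [← hs]
      exact hd.trans (Subgroup.card_subgroup_dvd_card _)
    refine normalizer_le_of_sylow (mem_sigma_of_dvd hp hpd) (P.2.map _)
      (hle.trans (sigmaCore_le M)) fun hd => ?_
    rw [← Subgroup.relIndex_mul_relIndex _ _ M hle (sigmaCore_le M)] at hd
    rcases hp.dvd_mul.1 hd with h1 | h1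
    · rw [← hs, relIndex_map_subtype] at h1
      exact P.not_dvd_index h1
    · exact (SigmaHall.sigmaCore_isPiHallOf hG hM).2.2 p hp (mem_sigma_of_dvd hp hpd) h1
  · have hle := (R.r1355 M hM).2.1
    rw [← Subgroup.relIndex_mul_index hle]
    refine ((fittingHallOf_coprime M).coprime_dvd_right ?_).mul_right
      ((coprime_index_sigmaCore hG hM).coprime_dvd_left (Subgroup.card_dvd_of_le hle))
    rw [← Subgroup.relIndex_mul_relIndex _ _ M hle (sigmaCore_le M)]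
    exact dvd_mul_right _ _

end Cfsg.Agent.Lib.OddOrder.Types.Classify
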