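import Cfsg.Agent.Lib.OddOrder.Assembly.RowsOf
import Cfsg.Agent.Lib.OddOrder.Partner.SylowNorm
import Cfsg.Agent.Lib.OddOrder.Partner.Discharge

/-!
# The rows of BG 14, 15 hold
-/

set_option autoImplicit false

namespace Cfsg.Agent.Lib.OddOrder.Types

universe u

/-- BG 14.12 in the shape used by the rows of BG 14, 15. -/
theorem sylowNormalizer {G : Type u} [Group G] [Finite G] (hG : Cfsg.IsMinSimpleOddOrder G) :
    BG14.KappaHyp.SylowNormalizer G :=
  fun _ hM _ _ hKU hK1 hU1 _ hN hKst hKstH _ _ hr R _ hH hNR =>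
    Partner.sylow_normalizer (Partner.hyp hG) hM hKU hK1 hU1 ⟨hN, hKst, hKstH⟩ hr R hH hNR

/-- All the rows of BG 14, 15 used in BG 16. -/
theorem allRows {G : Type u} [Group G] [Finite G] (hG : Cfsg.IsMinSimpleOddOrder G) : Rows G :=
  Assembly.RowsOf.rows hG (sylowNormalizer hG)

end Cfsg.Agent.Lib.OddOrder.Types
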