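import Cfsg.Agent.Lib.OddOrder.TypeOne
import Cfsg.Agent.Lib.OddOrder.Types.Classify

/-!
# BG 16, Theorem I: the pair of subgroups of type P
-/

set_option autoImplicit false
set_option linter.style.haveILetI false
set_option linter.unusedSectionVars false

open scoped Pointwise commutatorElement

namespace Cfsg.Agent.Lib.OddOrder.Types.Structure

open Cfsg.Agent.Lib.OddOrder.MinSimple Cfsg.Agent.Lib.OddOrder.Basic
open Cfsg.Agent.Lib.OddOrder.Types.Decomp Cfsg.Agent.Lib.OddOrder.Types.Classify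

universe u

variable {G : Type u} [Group G] [Finite G] {M K U : Subgroup G}

theorem typeP_cases (hG : Cfsg.IsMinSimpleOddOrder G) (R : Rows G) (hM : IsCoatom M)
    (h : Cfsg.IsSigmaDecomposition M K U) (hK : K ≠ ⊥) :
    Cfsg.IsOfTypeII M ∨ Cfsg.IsOfTypeIII M ∨ Cfsg.IsOfTypeIV M ∨ Cfsg.IsOfTypeV M := by
  by_cases hU : U = ⊥
  · by_cases hne : Cfsg.fittingHallOf M = Cfsg.sigmaCore M
    · exact Or.inr (Or.inr (Or.inr (typeV_of hG R hM h hK hU hne)))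
    · exact Or.inr ((typeIII_IV_of hG R hM h hK hU hne).elim Or.inl (fun h4 => Or.inr (Or.inl h4)))
  · exact Or.inl (typeII_of hG R hM h hK hU)

/-- Every maximal subgroup is of one of the five types. -/
theorem types (hG : Cfsg.IsMinSimpleOddOrder G) (R : Rows G) (hM : IsCoatom M) :
    Cfsg.Agent.Lib.OddOrder.TypeOne.IsTypeI M ∨ Cfsg.IsOfTypeII M ∨ Cfsg.IsOfTypeIII M ∨ Cfsg.IsOfTypeIV M ∨
      Cfsg.IsOfTypeV M := by
  obtain ⟨K, U, h⟩ := exists_decomp R hM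
  by_cases hK : K = ⊥
  · exact Or.inl (typeI_of hG R hM h hK)
  · exact Or.inr (typeP_cases hG R hM h hK)

theorem structureThm (hG : Cfsg.IsMinSimpleOddOrder G) (R : Rows G) :
    (∀ M : Subgroup G, IsCoatom M → Cfsg.Agent.Lib.OddOrder.TypeOne.IsTypeI M) ∨
      ∃ W₁ W₂ S T : Subgroup G, Cfsg.IsSelfNormalizingCyclic W₁ W₂ ∧ IsCoatom S ∧ IsCoatom T ∧
        Cfsg.IsComplIn ⁅S, S⁆ W₁ S ∧ Cfsg.IsComplIn ⁅T, T⁆ W₂ T ∧ S ⊓ T = W₁ ⊔ W₂ ∧
        (Cfsg.IsOfTypeII S ∨ Cfsg.IsOfTypeII T) ∧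
        (Cfsg.IsOfTypeII S ∨ Cfsg.IsOfTypeIII S ∨ Cfsg.IsOfTypeIV S ∨ Cfsg.IsOfTypeV S) ∧
        (Cfsg.IsOfTypeII T ∨ Cfsg.IsOfTypeIII T ∨ Cfsg.IsOfTypeIV T ∨ Cfsg.IsOfTypeV T) ∧
        ∀ M : Subgroup G, IsCoatom M → Cfsg.Agent.Lib.OddOrder.TypeOne.IsTypeI M ∨ ∃ g : G,
          M = S.map (MulAut.conj g).toMonoidHom ∨ M = T.map (MulAut.conj g).toMonoidHom := by
  refine or_iff_not_imp_left.2 fun hne => ?_
  push Not at hne
  obtain ⟨M, hM, hI⟩ := hne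
  obtain ⟨K, U, h⟩ := exists_decomp R hM
  have hK : K ≠ ⊥ := fun e => hI (typeI_of hG R hM h e)
  obtain ⟨T, ⟨hT, hKst, hKstH⟩, -⟩ := R.r1366 M hM K U h hK
  obtain ⟨hc, hne', -, -⟩ := R.r1364 M hM K U h hK
  obtain ⟨⟨V, hV⟩, -⟩ := R.r1352 T hT _ hc hKstH
  obtain ⟨hII, hconj⟩ := R.r1369 M hM K U h hK T hT hKst hKstH
  refine ⟨K, kStar M K, M, T, selfNormalizing R hM h hK, hM, hT, compl_derived_K R hG hM h hK,
    compl_derived_K R hG hT hV hne', (R.r1368 M hM K U h hK T hT hKst hKstH).1, ?_,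
    typeP_cases hG R hM h hK, typeP_cases hG R hT hV hne', fun L hL => ?_⟩
  · rcases hII with hU | hU
    · exact Or.inl (typeII_of hG R hM h hK hU)
    · exact Or.inr (typeII_of hG R hT hV hne' (hU V hV))
  · obtain ⟨K', U', h'⟩ := exists_decomp R hL
    by_cases hK' : K' = ⊥
    · exact Or.inl (typeI_of hG R hL h' hK')
    · exact Or.inr (hconj L hL ((kappa_nonempty_iff h').2 hK'))

end Cfsg.Agent.Lib.OddOrder.Types.Structure
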