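import Cfsg.Agent.Lib.OddOrder.TypeOne
import Cfsg.Agent.Lib.OddOrder.Types.Structure
import Cfsg.Agent.Lib.Induced.FrobeniusKernel
import Cfsg.Agent.Lib.OddLocal.FrobeniusAmbient

/-!
# BG 16, Theorem II: centralizers and tame embedding of the supports
-/

set_option autoImplicit false
set_option linter.style.haveILetI false
set_option linter.unusedSectionVars false

open scoped Pointwise commutatorElement

namespace Cfsg.Agent.Lib.OddOrder.Types.Tame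

open Cfsg.Agent.Lib.OddOrder.MinSimple Cfsg.Agent.Lib.OddOrder.Basic
open Cfsg.Agent.Lib.OddOrder.Types.Decomp Cfsg.Agent.Lib.OddOrder.Types.Classify

universe u

variable {G : Type u} [Group G] [Finite G] {M K U : Subgroup G}

theorem mem_typeA_iff (hG : Cfsg.IsMinSimpleOddOrder G) (R : Rows G) (hM : IsCoatom M)
    (h : Cfsg.IsSigmaDecomposition M K U) {a : G} :
    a ∈ Cfsg.Agent.Lib.OddOrder.TypeOne.typeA M ↔ a ∈ Cfsg.sigmaA M U ∧ a ≠ 1 := by
  unfold Cfsg.Agent.Lib.OddOrder.TypeOne.typeA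
  split_ifs with hI
  · obtain ⟨hK, -⟩ := (typeI_iff hG R hM h).1 hI
    have hsup : U ⊔ Cfsg.sigmaCore M = M := by
      rw [sup_comm]; exact isComplIn_sup (compl_of_K_bot h hK)
    rw [H_eq_sigma R hM h (Or.inl hK)]
    constructor
    · rintro ⟨ha, ha1, x, hx, hx1, hax⟩
      exact ⟨⟨⟨ha, x, hx, hx1, hax⟩, hsup.symm ▸ ha⟩, ha1⟩
    · rintro ⟨⟨⟨ha, x, hx, hx1, hax⟩, -⟩, ha1⟩
      exact ⟨ha, ha1, x, hx, hx1, hax⟩
  · have hK : K ≠ ⊥ := fun e => hI (typeI_of hG R hM h e)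
    rw [typeCore_eq hG R hM, derived_eq R hM h hK]
    constructor
    · rintro ⟨ha, ha1, x, hx, hx1, hax⟩
      exact ⟨⟨⟨(sup_le h.compl.1 (sigmaCore_le M)) ha, x, hx, hx1, hax⟩, ha⟩, ha1⟩
    · rintro ⟨⟨⟨-, x, hx, hx1, hax⟩, ha⟩, ha1⟩
      exact ⟨ha, ha1, x, hx, hx1, hax⟩

theorem typeA_diff (hG : Cfsg.IsMinSimpleOddOrder G) (R : Rows G) (hM : IsCoatom M)
    (h : Cfsg.IsSigmaDecomposition M K U) :
    Cfsg.Agent.Lib.OddOrder.TypeOne.typeA M \ Cfsg.typeA1 M = Cfsg.sigmaA M U \ (Cfsg.sigmaCore M : Set G) := by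
  ext a
  simp only [Set.mem_sdiff, mem_typeA_iff hG R hM h, Cfsg.typeA1, typeCore_eq hG R hM,
    Set.mem_singleton_iff, SetLike.mem_coe]
  constructor
  · rintro ⟨⟨ha, ha1⟩, hn⟩
    exact ⟨ha, fun hs => hn ⟨hs, ha1⟩⟩
  · rintro ⟨ha, hn⟩
    exact ⟨⟨ha, fun e => hn (e ▸ one_mem _)⟩, fun hs => hn hs.1⟩

/-- BG 16, Theorem II (a part): Sylow subgroups of `U`, uniqueness, the TI-set `A(M) - A₁(M)`. -/
theorem centralizers (hG : Cfsg.IsMinSimpleOddOrder G) (R : Rows G) (hM : IsCoatom M)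
    (hU : (Cfsg.Agent.Lib.OddOrder.TypeOne.IsTypeI M ∧ Cfsg.IsComplIn (Cfsg.fittingHallOf M) U M) ∨
      (Cfsg.IsOfTypeII M ∧ Cfsg.IsComplIn (Cfsg.fittingHallOf M) U ⁅M, M⁆)) :
    (∀ (p : ℕ), p.Prime → ∀ P : Sylow p U, IsMulCommutative (P : Subgroup U) ∧
        Cfsg.PRankLE p 2 (P : Subgroup U)) ∧
      (∀ X : Set G, X ⊆ (U : Set G) \ {1} → X.Nonempty →
        Cfsg.fittingHallOf M ⊓ Subgroup.centralizer X ≠ ⊥ →
        Subgroup.centralizer X ≤ M ∧ ∀ L : Subgroup G, IsCoatom L → Subgroup.centralizer X ≤ L → L = M) ∧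
      Cfsg.IsTISubset (Cfsg.Agent.Lib.OddOrder.TypeOne.typeA M \ Cfsg.typeA1 M) := by
  obtain ⟨K, U', h⟩ := exists_decomp R hM
  obtain ⟨K₁, h₁, hHσ⟩ : ∃ K₁ : Subgroup G, Cfsg.IsSigmaDecomposition M K₁ U ∧
      Cfsg.fittingHallOf M = Cfsg.sigmaCore M := by
    rcases hU with ⟨hI, hc⟩ | ⟨hII, hc⟩
    · obtain ⟨hK, -⟩ := (typeI_iff hG R hM h).1 hI
      have hHσ := H_eq_sigma R hM h (Or.inl hK)
      refine ⟨⊥, ⟨?_, ⟨bot_le, fun p hp hd => ?_, fun p hp hpk => ?_⟩, ?_, bot_le⟩, hHσ⟩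
      · infer_instance
      · rw [Subgroup.card_bot] at hd
        exact absurd hd hp.not_dvd_one
      · rw [(K_eq_bot_iff h).1 hK] at hpk
        exact absurd hpk (Set.notMem_empty p)
      · rw [bot_sup_eq, ← hHσ]
        exact isComplIn_symm hc
    · obtain ⟨hK, hU'⟩ := (typeII_iff hG R hM h).1 hII
      have hHσ := H_eq_sigma R hM h (Or.inr hU')
      rw [hHσ] at hc
      obtain ⟨d, hd, hdU⟩ := General.exists_conj_compl (solvable_derived hG hM)
        (compl_sigma_U R hG hM h hK) hc (coprime_U_sigma hG hM h).symm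
      exact ⟨_, hdU ▸ isSigmaDecomposition_conj h (TypeP.derived_le M hd), hHσ⟩
  refine ⟨R.r1358 M hM K₁ U h₁, fun X hX hne hcen => ?_, ?_⟩
  · have hXU : Subgroup.closure X ≤ U := (Subgroup.closure_le U).2 fun x hx => (hX hx).1
    have hX1 : Subgroup.closure X ≠ ⊥ := by
      obtain ⟨x, hx⟩ := hne
      intro e
      exact (hX hx).2 (Subgroup.mem_bot.1 (e ▸ Subgroup.subset_closure hx))
    have := R.r1361 M hM K₁ U h₁ (Subgroup.closure X) hXU hX1
      (by rwa [Subgroup.centralizer_closure, ← hHσ])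
    rwa [Subgroup.centralizer_closure] at this
  · rw [typeA_diff hG R hM h₁]
    exact R.r1362 M hM K₁ U h₁

/-- The `M`-conjugates of `Ẑ`. -/
abbrev zConj (M K : Subgroup G) : Set G :=
  {a : G | ∃ m ∈ M, ∃ z ∈ ((↑(K ⊔ kStar M K) : Set G) \ ((K : Set G) ∪ ↑(kStar M K))),
    a = m * z * m⁻¹}

theorem typeA0_subset (hG : Cfsg.IsMinSimpleOddOrder G) (R : Rows G) (hM : IsCoatom M)
    (h : Cfsg.IsSigmaDecomposition M K U) {x : G} (hx : x ∈ Cfsg.Agent.Lib.OddOrder.TypeOne.typeA0 M)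
    (hxA : x ∉ Cfsg.Agent.Lib.OddOrder.TypeOne.typeA M) : K ≠ ⊥ ∧ x ∈ zConj M K := by
  obtain ⟨hnI, W₁, V, W₂, hP, m, hm, w, hw, hw1, hw2, rfl⟩ := hx.resolve_left hxA
  have hK : K ≠ ⊥ := fun e => hnI (typeI_of hG R hM h e)
  refine ⟨hK, ?_⟩
  have hn : M ≤ Subgroup.normalizer ((⁅M, M⁆ : Subgroup G) : Set G) :=
    Subgroup.map_subtype_commutator M ▸ le_normalizer_map_subtype M _
  obtain ⟨c, hc, hcW⟩ := General.exists_conj_compl (solvable_of_ne_top hG hM.1)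
    (compl_derived_K R hG hM h hK) hP.W₁_compl (coprime_derived_K R hG hM h hK)
  have hW₂ : W₂ = (kStar M K).map (MulAut.conj c).toMonoidHom := by
    obtain ⟨k, hk, hk1⟩ := K.bot_or_exists_ne_one.resolve_left hK
    have hk' : c * k * c⁻¹ ∈ W₁ := hcW ▸ General.conj_mem_map_conj hk
    rw [← hP.W₂_centralizer _ hk' (fun e => hk1 (conj_eq_one_iff.1 e)),
      ← derived_centralizer R hG hM h hK hk hk1,
      Subgroup.map_inf _ _ _ (MulAut.conj c).injective,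
      General.map_conj_eq_of_mem_normalizer (hn hc)]
    congr 1
    ext y
    rw [General.mem_map_conj, Subgroup.mem_centralizer_singleton_iff,
      Subgroup.mem_centralizer_singleton_iff]
    constructor
    · intro hy
      calc c⁻¹ * y * c * k = c⁻¹ * (y * (c * k * c⁻¹)) * c := by group
        _ = c⁻¹ * (c * k * c⁻¹ * y) * c := by rw [hy]
        _ = k * (c⁻¹ * y * c) := by group
    · intro hy
      calc y * (c * k * c⁻¹) = c * (c⁻¹ * y * c * k) * c⁻¹ := by group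
        _ = c * (k * (c⁻¹ * y * c)) * c⁻¹ := by rw [hy]
        _ = c * k * c⁻¹ * y := by group
  rw [← hcW] at hw hw1
  rw [hW₂] at hw hw2
  rw [← Subgroup.map_sup] at hw
  refine ⟨m * c, mul_mem hm hc, c⁻¹ * w * c, ⟨General.mem_map_conj.1 hw, ?_⟩, by group⟩
  rintro (h1 | h1)
  · exact hw1 (General.mem_map_conj.2 h1)
  · exact hw2 (General.mem_map_conj.2 h1)

theorem typeA_le (hG : Cfsg.IsMinSimpleOddOrder G) (R : Rows G) (hM : IsCoatom M)
    (h : Cfsg.IsSigmaDecomposition M K U) {a : G} (ha : a ∈ Cfsg.Agent.Lib.OddOrder.TypeOne.typeA M) :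
    a ∈ M ∧ (K ≠ ⊥ → a ∈ ⁅M, M⁆) :=
  ⟨((mem_typeA_iff hG R hM h).1 ha).1.1.1, fun hK => by
    rw [derived_eq R hM h hK]; exact ((mem_typeA_iff hG R hM h).1 ha).1.2⟩

theorem orderOf_conj' (g x : G) : orderOf (g * x * g⁻¹) = orderOf x :=
  (MulAut.conj g).orderOf_eq x

theorem not_conj_sigma (hG : Cfsg.IsMinSimpleOddOrder G) (hM : IsCoatom M) {x g : G}
    (hx : x ∈ Cfsg.sigmaCore M) (hy : g * x * g⁻¹ ∈ M) : g * x * g⁻¹ ∈ Cfsg.sigmaCore M := by
  refine SigmaSubgroup.le_sigmaCore hG hM (Subgroup.zpowers_le.2 hy) (fun p hp hd => ?_)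
    (Subgroup.mem_zpowers _)
  rw [Nat.card_zpowers, orderOf_conj'] at hd
  exact mem_sigma_of_dvd hp (hd.trans (Subgroup.orderOf_dvd_natCard _ hx))

theorem not_conj_zConj (hG : Cfsg.IsMinSimpleOddOrder G) (R : Rows G) (hM : IsCoatom M)
    (h : Cfsg.IsSigmaDecomposition M K U) (hK : K ≠ ⊥) {x : G} (hx : x ∈ ⁅M, M⁆) (g : G) :
    g * x * g⁻¹ ∉ zConj M K := by
  rintro ⟨m, -, z, ⟨hz, hzn⟩, e⟩
  obtain ⟨a, ha, b, hb, rfl⟩ :=
    (Cyclic.isComplIn_sup_of_commute (fun a ha b hb => commute_kStar ha hb) (K_inf_kStar h)).2.2.2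
      z hz
  have hab : Commute a b := commute_kStar ha hb
  have hco : (orderOf a).Coprime (orderOf b) :=
    (((coprime_K_sigma h).coprime_dvd_left (Subgroup.orderOf_dvd_natCard _ ha)).coprime_dvd_right
      (Subgroup.orderOf_dvd_natCard _ hb.1))
  have h1 : orderOf x = orderOf a * orderOf b := by
    rw [← orderOf_conj' g x, e, orderOf_conj', hab.orderOf_mul_eq_mul_orderOf_of_coprime hco]
  have h2 : orderOf a = 1 := Nat.eq_one_of_dvd_coprimes (coprime_derived_K R hG hM h hK)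
    ((Dvd.intro _ h1.symm).trans (Subgroup.orderOf_dvd_natCard _ hx))
    (Subgroup.orderOf_dvd_natCard _ ha)
  rw [orderOf_eq_one_iff.1 h2, one_mul] at hzn
  exact hzn (Or.inr hb)

theorem normalizer_le_of_stable (hG : Cfsg.IsMinSimpleOddOrder G) (hM : IsCoatom M) {T : Set G}
    (hT : ∀ a ∈ T, a ∈ M) (hst : ∀ m ∈ M, ∀ a ∈ T, m * a * m⁻¹ ∈ T) {x : G} (hx : x ∈ T)
    (hx1 : x ≠ 1) : Subgroup.normalizer T ≤ M := by
  have hle : M ≤ Subgroup.normalizer T := Subgroup.le_set_normalizer_iff.2 hst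
  have hc : Subgroup.normalizer T ≠ ⊤ := by
    intro htop
    have h1 : Subgroup.normalizer ((Subgroup.closure T : Subgroup G) : Set G) = ⊤ :=
      top_le_iff.1 (htop ▸ Subgroup.normalizer_le_normalizer_closure T)
    rcases eq_bot_or_top hG (Subgroup.normalizer_eq_top_iff.1 h1) with h2 | h2
    · exact hx1 (Subgroup.mem_bot.1 (h2 ▸ Subgroup.subset_closure hx))
    · exact hM.1 (top_le_iff.1 (h2 ▸ (Subgroup.closure_le M).2 hT))
  exact le_of_eq ((lt_or_eq_of_le hle).resolve_left fun hlt => hc (hM.2 _ hlt)).symm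

/-- A TI-set stable under `M` absorbs its fusion into `M`. -/
theorem mem_of_TI (hG : Cfsg.IsMinSimpleOddOrder G) (hM : IsCoatom M) {T : Set G}
    (hTI : Cfsg.IsTISubset T) (hT : ∀ a ∈ T, a ∈ M) (hst : ∀ m ∈ M, ∀ a ∈ T, m * a * m⁻¹ ∈ T)
    {x g : G} (hx : x ∈ T) (hx1 : x ≠ 1) (hg : g * x * g⁻¹ ∈ T) : g ∈ M := by
  by_contra hgM
  exact hx1 (hTI g (fun hn => hgM (normalizer_le_of_stable hG hM hT hst hx hx1 hn)) x hx hg)

theorem sigmaA_diff_stable (R : Rows G) (hM : IsCoatom M) (h : Cfsg.IsSigmaDecomposition M K U)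
    {m : G} (hm : m ∈ M) {a : G} (ha : a ∈ Cfsg.sigmaA M U \ (Cfsg.sigmaCore M : Set G)) :
    m * a * m⁻¹ ∈ Cfsg.sigmaA M U \ (Cfsg.sigmaCore M : Set G) := by
  obtain ⟨⟨⟨haM, y, hy, hy1, hay⟩, haU⟩, hn⟩ := ha
  refine ⟨⟨⟨mul_mem (mul_mem hm haM) (inv_mem hm), m * y * m⁻¹,
    (Subgroup.mem_normalizer_iff.1 (sigmaCore_normal M hm) y).1 hy,
    fun e => hy1 (conj_eq_one_iff.1 e), ?_⟩,
    (Subgroup.mem_normalizer_iff.1 (U_sup_normal R hM h hm) a).1 haU⟩,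
    fun h1 => hn ((Subgroup.mem_normalizer_iff.1 (sigmaCore_normal M hm) a).2 h1)⟩
  calc m * a * m⁻¹ * (m * y * m⁻¹) = m * (a * y) * m⁻¹ := by group
    _ = m * (y * a) * m⁻¹ := by rw [hay]
    _ = m * y * m⁻¹ * (m * a * m⁻¹) := by group

theorem zConj_TI (R : Rows G) (hM : IsCoatom M) (h : Cfsg.IsSigmaDecomposition M K U)
    (hK : K ≠ ⊥) : Cfsg.IsTISubset (zConj M K) := by
  obtain ⟨he, hTI⟩ := R.r1371 M hM K U h hK
  rwa [← he] at hTI

theorem zConj_le (h : Cfsg.IsSigmaDecomposition M K U) :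
    (∀ a ∈ zConj M K, a ∈ M) ∧ (∀ m ∈ M, ∀ a ∈ zConj M K, m * a * m⁻¹ ∈ zConj M K) ∧
      ∀ a ∈ zConj M K, a ≠ 1 := by
  refine ⟨?_, ?_, ?_⟩
  · rintro _ ⟨m, hm, z, hz, rfl⟩
    exact mul_mem (mul_mem hm (sup_le h.hall.1 (inf_le_left.trans (sigmaCore_le M)) hz.1))
      (inv_mem hm)
  · rintro m hm _ ⟨n, hn, z, hz, rfl⟩
    exact ⟨m * n, mul_mem hm hn, z, hz, by group⟩
  · rintro _ ⟨m, -, z, hz, rfl⟩ e
    exact hz.2 (Or.inl ((conj_eq_one_iff.1 e).symm ▸ K.one_mem))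

/-- Fusion in `A₀(M)` is controlled by `M`. -/
theorem fusion (hG : Cfsg.IsMinSimpleOddOrder G) (R : Rows G) (hM : IsCoatom M) {x g : G}
    (hx : x ∈ Cfsg.Agent.Lib.OddOrder.TypeOne.typeA0 M) (hy : g * x * g⁻¹ ∈ Cfsg.Agent.Lib.OddOrder.TypeOne.typeA0 M) :
    ∃ m ∈ M, m * x * m⁻¹ = g * x * g⁻¹ := by
  obtain ⟨K, U, h⟩ := exists_decomp R hM
  obtain ⟨hzM, hzst, hz1⟩ := zConj_le (K := K) h
  by_cases hxA : x ∈ Cfsg.Agent.Lib.OddOrder.TypeOne.typeA M
  · by_cases hyA : g * x * g⁻¹ ∈ Cfsg.Agent.Lib.OddOrder.TypeOne.typeA M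
    · have hx1 := ((mem_typeA_iff hG R hM h).1 hxA).2
      have hxM := (typeA_le hG R hM h hxA).1
      by_cases hxσ : x ∈ Cfsg.sigmaCore M
      · obtain ⟨-, N, -, hNc, hNt⟩ := R.r1374 M hM x hxσ hx1
        have hxg : x ∈ M.map (MulAut.conj g⁻¹).toMonoidHom :=
          General.mem_map_conj.2 (by simpa using (typeA_le hG R hM h hyA).1)
        obtain ⟨r, ⟨hr, hrM⟩, -⟩ := hNt g⁻¹ hxg
        have hrx : r * x = x * r :=
          Subgroup.mem_centralizer_singleton_iff.1 (hNc.2.1 hr)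
        refine ⟨g * r, ?_, by rw [show g * r * x * (g * r)⁻¹ = g * (r * x * r⁻¹) * g⁻¹ by group,
          hrx, mul_inv_cancel_right]⟩
        rw [← normalizer_coatom hG hM]
        refine General.mem_normalizer_of_map_conj_eq ?_
        rw [General.map_conj] at hrM ⊢
        rw [map_mul, mul_smul, hrM, General.map_conj, map_inv, smul_inv_smul]
      · have hyσ : g * x * g⁻¹ ∉ Cfsg.sigmaCore M := fun hs => hxσ (by
          have h2 := not_conj_sigma hG hM (g := g⁻¹) hs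
            (by simpa [mul_assoc] using hxM)
          simpa [mul_assoc] using h2)
        exact ⟨g, mem_of_TI hG hM (R.r1362 M hM K U h) (fun a ha => ha.1.1.1)
          (fun m hm a ha => sigmaA_diff_stable R hM h hm ha)
          ⟨((mem_typeA_iff hG R hM h).1 hxA).1, hxσ⟩ hx1
          ⟨((mem_typeA_iff hG R hM h).1 hyA).1, hyσ⟩, rfl⟩
    · obtain ⟨hK, hyT⟩ := typeA0_subset hG R hM h hy hyA
      exact absurd hyT (not_conj_zConj hG R hM h hK ((typeA_le hG R hM h hxA).2 hK) g)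
  · obtain ⟨hK, hxT⟩ := typeA0_subset hG R hM h hx hxA
    by_cases hyA : g * x * g⁻¹ ∈ Cfsg.Agent.Lib.OddOrder.TypeOne.typeA M
    · refine absurd ?_ (not_conj_zConj hG R hM h hK ((typeA_le hG R hM h hyA).2 hK) g⁻¹)
      rwa [show g⁻¹ * (g * x * g⁻¹) * g⁻¹⁻¹ = x by group]
    · exact ⟨g, mem_of_TI hG hM (zConj_TI R hM h hK) hzM hzst hxT (hz1 x hxT)
        (typeA0_subset hG R hM h hy hyA).2, rfl⟩

/-- An element of `A₀(M)` with centralizer outside `M` lies in `M_σ`. -/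
theorem mem_sigma_of_centralizer (hG : Cfsg.IsMinSimpleOddOrder G) (R : Rows G) (hM : IsCoatom M)
    {x : G} (hx : x ∈ Cfsg.Agent.Lib.OddOrder.TypeOne.typeA0 M) (hxc : ¬ Subgroup.centralizer ({x} : Set G) ≤ M) :
    x ∈ Cfsg.sigmaCore M ∧ x ≠ 1 := by
  obtain ⟨K, U, h⟩ := exists_decomp R hM
  have key : ∀ T : Set G, Cfsg.IsTISubset T → (∀ a ∈ T, a ∈ M) →
      (∀ m ∈ M, ∀ a ∈ T, m * a * m⁻¹ ∈ T) → x ∈ T → x ≠ 1 → False := by
    intro T hTI hT hst hxT hx1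
    refine hxc fun g hg => mem_of_TI hG hM hTI hT hst hxT hx1 ?_
    rw [Subgroup.mem_centralizer_singleton_iff.1 hg, mul_inv_cancel_right]
    exact hxT
  by_cases hxA : x ∈ Cfsg.Agent.Lib.OddOrder.TypeOne.typeA M
  · have hA := (mem_typeA_iff hG R hM h).1 hxA
    refine ⟨?_, hA.2⟩
    by_contra hxσ
    exact key _ (R.r1362 M hM K U h) (fun a ha => ha.1.1.1)
      (fun m hm a ha => sigmaA_diff_stable R hM h hm ha) ⟨hA.1, hxσ⟩ hA.2
  · obtain ⟨hK, hxT⟩ := typeA0_subset hG R hM h hx hxA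
    obtain ⟨hzM, hzst, hz1⟩ := zConj_le (K := K) h
    exact (key _ (zConj_TI R hM h hK) hzM hzst hxT (hz1 x hxT)).elim

theorem coprime_centralizer (hG : Cfsg.IsMinSimpleOddOrder G) (R : Rows G) (hM : IsCoatom M)
    {x : G} (hx : x ∈ Cfsg.sigmaCore M) (hx1 : x ≠ 1)
    (hxc : ¬ Subgroup.centralizer ({x} : Set G) ≤ M) {L : Subgroup G} (hL : IsCoatom L)
    (hxL : Subgroup.centralizer ({x} : Set G) ≤ L) (hxn : x ∉ Cfsg.sigmaCore L)
    {y : G} (hy : y ∈ Cfsg.Agent.Lib.OddOrder.TypeOne.typeA0 M) :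
    (Nat.card (Cfsg.sigmaCore L)).Coprime
      (Nat.card ↥(M ⊓ Subgroup.centralizer ({y} : Set G))) := by
  refine Nat.coprime_of_dvd fun q hq h1 h2 => ?_
  haveI := Fact.mk hq
  have hqL := mem_sigma_of_dvd hq h1
  obtain ⟨hκ, hτ⟩ := (R.r1436 M hM x hx hx1 hxc L hL hxL).1
    ⟨q, hqL, h2.trans (Subgroup.card_dvd_of_le inf_le_left)⟩
  obtain ⟨K, U, h⟩ := exists_decomp R hM
  have hyA : y ∈ Cfsg.Agent.Lib.OddOrder.TypeOne.typeA M := by
    by_contra hyA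
    exact (typeA0_subset hG R hM h hy hyA).1 ((K_eq_bot_iff h).2 hκ)
  obtain ⟨⟨⟨hyM, z, hz, hz1, hyz⟩, -⟩, hy1⟩ := (mem_typeA_iff hG R hM h).1 hyA
  -- every element of `M` centralizing a nontrivial element of `M_σ` is a `σ(M)`-element
  have key : ∀ a ∈ M, ∀ z ∈ Cfsg.sigmaCore M, z ≠ 1 → a * z = z * a →
      ∀ r : ℕ, r.Prime → r ∣ orderOf a → r ∈ Cfsg.sigma M := by
    intro a ha z hz hz1 haz r hr hd
    by_contra hrσ
    obtain ⟨d, hd'⟩ := hd
    have hd0 : d ≠ 0 := fun e => by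
      rw [e, mul_zero] at hd'; exact (orderOf_pos a).ne' hd'
    have hor : orderOf (a ^ d) = r := by
      rw [orderOf_pow' a hd0, hd', Nat.gcd_eq_right (dvd_mul_left d r),
        Nat.mul_div_cancel _ (Nat.pos_of_ne_zero hd0)]
    have hone : a ^ d ≠ 1 := fun e => hr.ne_one (by rw [← hor, e, orderOf_one])
    rcases R.r1432 M hM z hz hz1 (a ^ d)
      ⟨pow_mem ha d, Subgroup.mem_centralizer_singleton_iff.2 ((Commute.pow_left haz d).eq)⟩ hone
      (fun s hs hsd => by rw [hor] at hsd; rwa [(Nat.prime_dvd_prime_iff_eq hs hr).1 hsd]) with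
      h' | h'
    · have := h'.1 r hr (by rw [hor])
      rw [hκ] at this
      exact this
    · have := h'.1 r hr (by rw [hor])
      rw [hτ] at this
      exact this
  have hyσ : y ∈ Cfsg.sigmaCore M := by
    refine SigmaSubgroup.le_sigmaCore hG hM (Subgroup.zpowers_le.2 hyM) (fun r hr hd => ?_)
      (Subgroup.mem_zpowers y)
    rw [Nat.card_zpowers] at hd
    exact key y hyM z hz hz1 hyz r hr hd
  obtain ⟨w, hw⟩ := exists_prime_orderOf_dvd_card'
    (G := ↥(M ⊓ Subgroup.centralizer ({y} : Set G))) q h2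
  have hqM : q ∈ Cfsg.sigma M := key (w : G) w.2.1 y hyσ hy1
    (Subgroup.mem_centralizer_singleton_iff.1 w.2.2) q hq (by rw [Subgroup.orderOf_coe, hw])
  obtain ⟨g, rfl⟩ := R.r1378.2 M L hM hL ⟨q, hqM, hqL⟩
  refine hxn (SigmaSubgroup.le_sigmaCore hG hL (Subgroup.zpowers_le.2
    (hxL (Subgroup.mem_centralizer_singleton_iff.2 rfl))) (fun r hr hd => ?_)
    (Subgroup.mem_zpowers x))
  rw [Nat.card_zpowers] at hd
  haveI := Fact.mk hr
  have hrM := mem_sigma_of_dvd hr (hd.trans (Subgroup.orderOf_dvd_natCard _ hx))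
  obtain ⟨-, -, S, hS⟩ := hrM
  refine ⟨hr, ?_, ?_⟩
  · rw [Subgroup.card_map_of_injective (MulAut.conj g).injective]
    exact (hd.trans (Subgroup.orderOf_dvd_natCard _ (sigmaCore_le M hx)))
  · set e := (MulAut.conj g).toMonoidHom
    have hdd : ¬ r ∣ ((((S : Subgroup M).map M.subtype).map e).subgroupOf (M.map e)).index := by
      show ¬ r ∣ (((S : Subgroup M).map M.subtype).map e).relIndex (M.map e)
      rw [Subgroup.relIndex_map_map_of_injective _ _ (MulAut.conj g).injective,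
        relIndex_map_subtype]
      exact S.not_dvd_index
    have hdd' : ¬ r ∣ ((((S : Subgroup M).map M.subtype).map e).comap (M.map e).subtype).index := hdd
    refine ⟨(((S.2.map M.subtype).map e).comap_subtype).toSylow hdd', ?_⟩
    rw [IsPGroup.toSylow_coe, ← Subgroup.subgroupOf, Subgroup.map_subgroupOf_eq_of_le
      (Subgroup.map_mono (Subgroup.map_subtype_le _))]
    intro n hn
    have h3 := hn
    rw [← Subgroup.map_equiv_normalizer_eq (((S : Subgroup M).map M.subtype)) (MulAut.conj g)] at h3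
    exact Subgroup.map_mono hS h3

theorem frobenius_kernel (hG : Cfsg.IsMinSimpleOddOrder G) (R : Rows G) (hM : IsCoatom M)
    (hκ : Cfsg.kappa M = ∅) {E : Subgroup ↥M} (hE : Cfsg.IsFrobeniusComplement E)
    (hEc : IsCyclic E) :
    Cfsg.frobeniusKernel E = ((Cfsg.fittingHall ↥M : Subgroup ↥M) : Set ↥M) := by
  obtain ⟨K, U, h⟩ := exists_decomp R hM
  have hK := (K_eq_bot_iff h).2 hκ
  have hHσ := H_eq_sigma R hM h (Or.inl hK)
  haveI := solvable_of_ne_top hG hM.1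
  obtain ⟨N, hNn, hNE, -⟩ := Induced.FrobeniusKernel.exists_normal_complement (H := E)
    (fun g hg e he hge => Cfsg.Agent.Lib.Frobenius.eq_one_of_conj_mem hE (g := g⁻¹)
      (fun h => hg (by simpa using inv_mem h)) he (by rwa [inv_inv]))
  haveI := hNn
  rw [← Cfsg.Agent.Lib.Frobenius.coe_eq_frobeniusKernel hE hNn hNE]
  haveI := hEc
  have hcop : (Nat.card N).Coprime N.index := by
    have h1 := Cfsg.Agent.Lib.Frobenius.coprime_card_index hE
    rw [hNE.index_eq_card, Nat.coprime_comm] at h1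
    rwa [hNE.symm.index_eq_card]
  have hnil : Group.IsNilpotent N := by
    have hN1 : N ≠ ⊥ := fun e => hE.2.1 (Subgroup.isComplement'_bot_left.1 (e ▸ hNE))
    have hEN : E ≤ Subgroup.normalizer (N : Set ↥M) :=
      le_top.trans (Subgroup.normalizer_eq_top_iff.2 hNn).ge
    haveI := OddLocal.FrobeniusAmbient.isNilpotent_kernel hN1 hE.1 hEN fun r hr hr1 =>
      le_bot_iff.1 ((inf_le_inf_left _ (Cfsg.Agent.Lib.Frobenius.centralizer_le hE hr hr1)).trans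
        hNE.disjoint.le_bot)
    exact Group.nilpotent_of_mulEquiv
      (Subgroup.subgroupOfEquivOfLe (le_sup_left : N ≤ N ⊔ E))
  refine congrArg SetLike.coe (le_antisymm (le_fittingHall hnil hcop) ?_)
  have hdN : commutator ↥M ≤ N := by
    refine Subgroup.Normal.quotient_commutative_iff_commutator_le.1 ?_
    haveI : IsMulCommutative E := IsCyclic.isMulCommutative
    exact ⟨⟨fun a b => hNE.symm.QuotientMulEquiv.injective (by
      rw [map_mul, map_mul]; exact mul_comm' _ _)⟩⟩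
  refine le_trans ?_ hdN
  intro y hy
  have h1 : (y : G) ∈ ⁅M, M⁆ :=
    (R.r1355 M hM).2.2.1 (hHσ ▸ (⟨y, hy, rfl⟩ : (y : G) ∈ Cfsg.fittingHallOf M))
  rw [← Subgroup.map_subtype_commutator] at h1
  obtain ⟨y', hy', e⟩ := h1
  rwa [← Subtype.ext e]

/-- BG 16, Theorem II: tame embedding of `A₀(M)`. -/
theorem embed (hG : Cfsg.IsMinSimpleOddOrder G) (R : Rows G) (hM : IsCoatom M) (X : Set G)
    (hX : X = Cfsg.Agent.Lib.OddOrder.TypeOne.typeA M ∨ X = Cfsg.Agent.Lib.OddOrder.TypeOne.typeA0 M) :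
    (∀ x ∈ X, ∀ g : G, g * x * g⁻¹ ∈ X → ∃ m ∈ M, m * x * m⁻¹ = g * x * g⁻¹) ∧
      (∀ x ∈ X, ¬ Subgroup.centralizer ({x} : Set G) ≤ M → x ∈ Cfsg.typeA1 M ∧
        ∃! L : Subgroup G, IsCoatom L ∧ Subgroup.centralizer ({x} : Set G) ≤ L) ∧
      ∀ x ∈ X, ¬ Subgroup.centralizer ({x} : Set G) ≤ M → ∀ L : Subgroup G, IsCoatom L →
        Subgroup.centralizer ({x} : Set G) ≤ L →
        Cfsg.IsComplIn (Cfsg.fittingHallOf L) (M ⊓ L) L ∧
        Subgroup.centralizer ({x} : Set G) ≤ Subgroup.normalizer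
          ((Cfsg.fittingHallOf L ⊓ Subgroup.centralizer ({x} : Set G) : Subgroup G) : Set G) ∧
        Cfsg.IsComplIn (Cfsg.fittingHallOf L ⊓ Subgroup.centralizer ({x} : Set G))
          (M ⊓ Subgroup.centralizer ({x} : Set G)) (Subgroup.centralizer ({x} : Set G)) ∧
        (∀ y ∈ X, (Nat.card (Cfsg.fittingHallOf L)).Coprime
          (Nat.card ↥(M ⊓ Subgroup.centralizer ({y} : Set G)))) ∧
        (x ∈ Cfsg.Agent.Lib.OddOrder.TypeOne.typeA L ∧ x ∉ Cfsg.typeA1 L) ∧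
        (Cfsg.Agent.Lib.OddOrder.TypeOne.IsTypeI L ∨ Cfsg.IsOfTypeII L) ∧
        (Cfsg.IsOfTypeII L → ∃ E : Subgroup ↥M, Cfsg.IsFrobeniusComplement E ∧
          Cfsg.frobeniusKernel E = ((Cfsg.fittingHall ↥M : Subgroup ↥M) : Set ↥M)) := by
  have hsub : X ⊆ Cfsg.Agent.Lib.OddOrder.TypeOne.typeA0 M := by
    rcases hX with rfl | rfl
    · exact Set.subset_union_left
    · exact subset_rfl
  refine ⟨fun x hx g hg => fusion hG R hM (hsub hx) (hsub hg), fun x hx hxc => ?_,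
    fun x hx hxc L hL hxL => ?_⟩
  · obtain ⟨hxσ, hx1⟩ := mem_sigma_of_centralizer hG R hM (hsub hx) hxc
    obtain ⟨N, hN, hNu, -⟩ := R.r1375 M hM x hxσ hx1 hxc
    refine ⟨⟨(typeCore_eq hG R hM).symm ▸ hxσ, hx1⟩, N, hN, fun L hL => hNu L hL.1 hL.2⟩
  · obtain ⟨hxσ, hx1⟩ := mem_sigma_of_centralizer hG R hM (hsub hx) hxc
    obtain ⟨N, -, hNu, hNσ, hnorm, hc1, hc2, hA⟩ := R.r1375 M hM x hxσ hx1 hxc
    obtain rfl := hNu L hL hxL
    obtain ⟨K', U', h'⟩ := exists_decomp R hL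
    obtain ⟨hU', hxA, hxn⟩ := hA K' U' h'
    rw [← hNσ]
    refine ⟨isComplIn_symm hc2, hnorm, isComplIn_symm hc1,
      fun y hy => coprime_centralizer hG R hM hxσ hx1 hxc hL hxL hxn (hsub hy),
      ⟨(mem_typeA_iff hG R hL h').2 ⟨hxA, hx1⟩,
        fun h1 => hxn (typeCore_eq hG R hL ▸ h1.1)⟩, ?_, fun hII => ?_⟩
    · by_cases hK' : K' = ⊥
      · exact Or.inl (typeI_of hG R hL h' hK')
      · exact Or.inr (typeII_of hG R hL h' hK' hU')
    · obtain ⟨hκ, ⟨E, hE, hEc⟩, -⟩ := R.r1376 M hM x hxσ hx1 hxc L hL hxL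
        ((kappa_nonempty_iff h').2 ((typeII_iff hG R hL h').1 hII).1)
      exact ⟨E, hE, frobenius_kernel hG R hM hκ hE hEc⟩

end Cfsg.Agent.Lib.OddOrder.Types.Tame
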